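import Groth.Agent.AbVar.K524.Kun
import Groth.Agent.Grpsch.Cube

/-!
# Vanishing of the cohomology of nontrivial classes in `Pic⁰` of an abelian variety

`van`: `k` any field, `A` a proper geometrically integral group scheme, `c` a class with `μ^*c = pr₁^*c pr₂^*c`, `c ≠ 1`.
Then `H^n(A, c) = 0` for all `n`.
-/

set_option autoImplicit false
universe u

open CategoryTheory CategoryTheory.Limits MonoidalCategory CartesianMonoidalCategory AlgebraicGeometry
open scoped MonObj
open Groth.Agent Groth.Agent.Grpsch.PicGrp Groth.Agent.Grpsch.Cube K524.Kun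

namespace K524.PicZeroVan

section Cat

variable {C : Type*} [Category C] [CartesianMonoidalCategory C] {A B : C} [GrpObj A]

/-- The automorphism `(x, y) ↦ (x, f(x) y)` of `B × A`. -/
noncomputable def shear (f : B ⟶ A) : B ⊗ A ≅ B ⊗ A where
  hom := lift (fst B A) ((fst B A ≫ f) * snd B A)
  inv := lift (fst B A) ((fst B A ≫ f)⁻¹ * snd B A)
  hom_inv_id := by
    rw [comp_lift, lift_fst, MonObj.comp_mul, GrpObj.comp_inv, ← Category.assoc, lift_fst, lift_snd,
      inv_mul_cancel_left, lift_fst_snd]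
  inv_hom_id := by
    rw [comp_lift, lift_fst, MonObj.comp_mul, ← Category.assoc, lift_fst, lift_snd,
      mul_inv_cancel_left, lift_fst_snd]

@[reassoc]
theorem shear_hom_fst (f : B ⟶ A) : (shear f).hom ≫ fst B A = fst B A := lift_fst _ _

@[reassoc]
theorem shear_hom_snd (f : B ⟶ A) : (shear f).hom ≫ snd B A = (fst B A ≫ f) * snd B A := lift_snd _ _

theorem mu_eq : μ[A] = fst A A * snd A A := by
  rw [Hom.mul_def, lift_fst_snd, Category.id_comp]

end Cat

variable {k : Type u} [Field k] {A : Over (Spec (CommRingCat.of k))} [GrpObj A]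

/-- The condition `μ^*c = pr₁^*c pr₂^*c`. -/
def Add (c : Pic A.left) : Prop := pl μ[A] c = pl (fst A A) c * pl (snd A A) c

theorem Add.pl_mul {c : Pic A.left} (hc : Add c) {T : Over (Spec (CommRingCat.of k))} (f g : T ⟶ A) :
    pl (f * g) c = pl f c * pl g c := by
  rw [Hom.mul_def, pl_comp, hc, map_mul, ← pl_comp, ← pl_comp, lift_fst, lift_snd]

theorem Add.pl_inv {c : Pic A.left} (hc : Add c) {T : Over (Spec (CommRingCat.of k))} (f : T ⟶ A) :
    pl f⁻¹ c = (pl f c)⁻¹ := by
  rw [← mul_eq_one_iff_eq_inv, ← hc.pl_mul, inv_mul_cancel, pl_one]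

theorem not_van_one {X : Scheme.{u}} [Nonempty X] : ¬ Van (1 : Pic X) 0 := by
  intro h
  rw [one_def, van_mk] at h
  have h1 : Subsingleton Γ(Coh.structureModule X, ⊤) :=
    (CurvesB.HZero.equivAdd (Coh.structureModule X)).symm.toEquiv.subsingleton
  have h0 : Nonempty (⊤ : X.Opens) := ⟨⟨Classical.arbitrary X, trivial⟩⟩
  have h2 : Nontrivial Γ(X, ⊤) := Scheme.component_nontrivial X ⊤
  have h3 : (1 : Γ(X, ⊤)) = 0 := h1.elim (α := Γ(Coh.structureModule X, ⊤)) _ _
  exact one_ne_zero h3

theorem exists_ne_zero_of_not_van {X : Scheme.{u}} {L : X.Modules} {hL : PicF.IsInvertible L} (h : ¬ Van (mk L hL) 0) :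
    ∃ s : Γ(L, ⊤), s ≠ 0 := by
  rw [van_mk, not_subsingleton_iff_nontrivial] at h
  obtain ⟨x, hx⟩ := exists_ne (0 : Coh.HH X L 0)
  exact ⟨CurvesB.HZero.equivAdd L x, by
    rwa [Ne, (CurvesB.HZero.equivAdd L).map_eq_zero_iff]⟩

/-- On a proper integral scheme over a field, `c` and `c⁻¹` with nonzero sections implies `c = 1`. -/
theorem eq_one_of_not_van {X : Scheme.{u}} [IsIntegral X] (f : X ⟶ Spec (CommRingCat.of k)) [IsProper f]
    {c : Pic X} (h : ¬ Van c 0) (h' : ¬ Van c⁻¹ 0) : c = 1 := by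
  obtain ⟨L, hL, rfl⟩ := exists_mk c
  obtain ⟨M, hM, hM'⟩ := exists_mk (mk L hL)⁻¹
  rw [hM'] at h'
  obtain ⟨s, hs⟩ := exists_ne_zero_of_not_van h
  obtain ⟨t, ht⟩ := exists_ne_zero_of_not_van h'
  exact Grpsch.CubeClosed.eq_one_of_sections (isField_of_universallyClosed k f) hL hM
    (by rw [← hM', mul_inv_cancel]) s hs t ht

variable [IsProper A.hom] [GeometricallyIntegral A.hom]

omit [GrpObj A] [IsProper A.hom] in
theorem isIntegral_left : IsIntegral A.left := by
  have := GeometricallyIntegral.isIntegral_of_subsingleton A.hom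
  exact this

/-- A nontrivial class in `Pic⁰` has no cohomology. -/
theorem van {c : Pic A.left} (hc : Add c) (hne : c ≠ 1) (n : ℕ) : Van c n := by
  have hint : IsIntegral A.left := isIntegral_left
  induction n using Nat.strong_induction_on with
  | _ n ih =>
    rcases Nat.eq_zero_or_pos n with rfl | hn
    · by_contra h
      apply hne
      refine eq_one_of_not_van A.hom h ?_
      have h1 : pl (𝟙 A)⁻¹ c = c⁻¹ := by
        rw [hc.pl_inv]
        congr 1
        exact pull_id c
      have hiso : IsIso ((𝟙 A)⁻¹ : A ⟶ A) := by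
        refine ⟨(𝟙 A)⁻¹, ?_, ?_⟩ <;>
        rw [GrpObj.comp_inv, Category.comp_id, inv_inv]
      have : IsIso ((𝟙 A)⁻¹ : A ⟶ A).left :=
        inferInstanceAs (IsIso ((Over.forget (Spec (CommRingCat.of k))).map ((𝟙 A)⁻¹ : A ⟶ A)))
      rw [← h1, van_pull_iso]
      exact h
    · have h1 : Van (pl (fst A A) c * pl (snd A A) c) n := by
        rw [van_box_iff]
        intro a b hab
        by_cases ha : a < n
        · exact Or.inl (ih a ha)
        · exact Or.inr (ih b (by omega))
      rw [← hc] at h1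
      have h2 : μ[A] = (shear (𝟙 A)).hom ≫ snd A A := by
        rw [shear_hom_snd, Category.comp_id, mu_eq]
      have : IsIso (shear (𝟙 A)).hom.left :=
        inferInstanceAs (IsIso ((Over.forget (Spec (CommRingCat.of k))).map (shear (𝟙 A)).hom))
      rw [h2, pl_comp, van_pull_iso] at h1
      have h3 : pl (snd A A) c = pl (fst A A) 1 * pl (snd A A) c := by rw [map_one, one_mul]
      rw [h3, van_box_iff] at h1
      rcases h1 0 n (zero_add n) with h4 | h4
      · exact absurd h4 not_van_one
      · exact h4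

end K524.PicZeroVan
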