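import Groth.Agent.AbVar.K524.Index
import Groth.Agent.AbVar.K518.Phi
import Groth.Agent.AbVar.K528.Gen
import Groth.Agent.S12002
import Groth.Agent.Sga5.AmpleFib
import Groth.Agent.Sga3C.GeomRedPerf
import Groth.Agent.Fdesc.GeomAlgClosed

/-!
# Degenerate classes on abelian varieties

`exists_acyc`: `k` algebraically closed, `c` a degenerate class on an abelian variety `X` (`K(c)` infinite).  Then for a
suitable ample class `H` and a rational point `x` the class `c φ_H(x)` has no cohomology at all.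
-/

set_option autoImplicit false
universe u

open CategoryTheory CategoryTheory.Limits MonoidalCategory CartesianMonoidalCategory AlgebraicGeometry TopologicalSpace
open scoped MonObj
open Groth.Agent Groth.Agent.Grpsch.PicGrp Groth.Agent.Grpsch.Cube K524.Kun K524.PicZeroVan K512.Slice K524.Index
open K506.Transl (tr phi Inv)

namespace K524.Degen

variable {k : Type u} [Field k] [IsAlgClosed k]

/-- The underlying closed point of a rational point. -/
noncomputable abbrev pt {X : Over (Spec (CommRingCat.of k))} (x : 𝟙_ (Over (Spec (CommRingCat.of k))) ⟶ X) : X.left :=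
  x.left (IsLocalRing.closedPoint k)

section Alg

variable {X : Over (Spec (CommRingCat.of k))} [GrpObj X] [IsProper X.hom] [GeometricallyIntegral X.hom]

/-- The class on `X × X` with slices `φ_c(x)`. -/
noncomputable def mum (c : Pic X.left) : Pic (X ⊗ X).left := pl (fst X X * snd X X) c * (pl (fst X X) c)⁻¹

omit [IsAlgClosed k] [IsProper X.hom] [GeometricallyIntegral X.hom] in
theorem mum_j2 (c : Pic X.left) (x : 𝟙_ (Over (Spec (CommRingCat.of k))) ⟶ X) : pl (j2 X x) (mum c) = phi c x := by
  unfold mum phi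
  rw [map_mul, map_inv, ← pl_comp, ← pl_comp, MonObj.comp_mul, j2_fst, j2_snd]
  congr 2
  exact (congrArg (fun g => pull g _) (Over.id_left X)).trans (pull_id _)

/-- Triviality on the fibre over a rational point. -/
theorem pull_fiberι_eq_one_iff {A B : Over (Spec (CommRingCat.of k))} (y : 𝟙_ (Over (Spec (CommRingCat.of k))) ⟶ B)
    (N : Pic (A ⊗ B).left) : pull ((snd A B).left.fiberι (pt y)) N = 1 ↔ pl (j2 A y) N = 1 := by
  have h5 : IsIso (y.left.residueFieldMap (IsLocalRing.closedPoint k)) :=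
    Key.isIso_residueFieldMap_of_section y.left B.hom (K512.Pts.w_unit y) _
  have h6 : IsIso ((toUnit A).left.fiberι (IsLocalRing.closedPoint k)) := Key.isIso_fiberι_spec _ _
  have hinj : ∀ {V W : Scheme.{u}} (e : V ⟶ W) [IsIso e] (c : Pic W), pull e c = 1 ↔ c = 1 := by
    intro V W e _ c
    constructor
    · intro h
      have := congrArg (pull (inv e)) h
      rwa [← pull_comp, IsIso.inv_hom_id, pull_id, map_one] at this
    · rintro rfl
      exact map_one _
  have h := isPullback_left_j2 (A := A) y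
  rw [← hinj (Fdesc.FlatStalk.fiberIso h (IsLocalRing.closedPoint k)).hom, ← pull_comp,
    Flat2H.ThickFibre.fiberIso_hom_ι h (IsLocalRing.closedPoint k), pull_comp, hinj]

/-- The closed set `K(c)`. -/
theorem exists_closed (c : Pic X.left) : ∃ Z : Set X.left, IsClosed Z ∧
    ∀ x : 𝟙_ (Over (Spec (CommRingCat.of k))) ⟶ X, pt x ∈ Z ↔ phi c x = 1 := by
  obtain ⟨N, hN, hNc⟩ := exists_mk (mum c)
  have i1 : IsProper (snd X X).left := isProper_snd
  have i2 : Flat (snd X X).left := flat_snd
  have i3 : LocallyOfFinitePresentation (snd X X).left := by rw [Over.snd_left]; infer_instance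
  have i4 : GeometricallyIntegral (snd X X).left := by rw [Over.snd_left]; infer_instance
  refine ⟨_, Grpsch.CubeClosed.isClosed_trivialLocus (snd X X).left N hN, fun x => ?_⟩
  rw [Set.mem_ofPred_eq, ← mk_eq_one_iff (Fdesc.LocGen.isInvertible_pullback _ hN), ← pull_mk _ hN, ← hNc,
    pull_fiberι_eq_one_iff, mum_j2]

theorem isNoetherian_left : IsNoetherian X.left := by
  have h1 : IsLocallyNoetherian X.left := LocallyOfFiniteType.isLocallyNoetherian X.hom
  have h2 : CompactSpace X.left := QuasiCompact.compactSpace_of_compactSpace X.hom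
  exact { }

/-- An irreducible closed subset of `K(c)` containing the origin, with infinitely many points. -/
theorem exists_irr (c : Pic X.left) (hc : ¬ ND c) : ∃ V : Set X.left, IsClosed V ∧ IsIrreducible V ∧
    pt (1 : 𝟙_ (Over (Spec (CommRingCat.of k))) ⟶ X) ∈ V ∧
    (∀ x : 𝟙_ (Over (Spec (CommRingCat.of k))) ⟶ X, pt x ∈ V → phi c x = 1) ∧
    {x : 𝟙_ (Over (Spec (CommRingCat.of k))) ⟶ X | pt x ∈ V}.Infinite := by
  obtain ⟨Z, hZ, hZc⟩ := exists_closed c
  have hN := isNoetherian_left (X := X)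
  have hN' : NoetherianSpace X.left := inferInstance
  obtain ⟨S, hS, hScl, hSirr, hZS⟩ := NoetherianSpace.exists_finite_set_isClosed_irreducible hZ
  have h1 : ∃ t ∈ S, {x : 𝟙_ (Over (Spec (CommRingCat.of k))) ⟶ X | pt x ∈ t}.Infinite := by
    by_contra hcon
    push Not at hcon
    apply hc
    refine (hS.biUnion hcon).subset fun x hx => ?_
    have h2 : pt x ∈ Z := (hZc x).mpr hx
    rw [hZS] at h2
    obtain ⟨t, ht, hxt⟩ := h2
    exact Set.mem_biUnion ht hxt
  obtain ⟨t, ht, htinf⟩ := h1
  obtain ⟨c0, hc0⟩ := htinf.nonempty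
  have htZ : t ⊆ Z := by
    rw [hZS]
    exact Set.subset_sUnion_of_mem ht
  have hiso : IsIso (tr c0) := ⟨tr c0⁻¹, by rw [K506.Transl.tr_comp_tr, mul_inv_cancel, K506.Transl.tr_one],
    by rw [K506.Transl.tr_comp_tr, inv_mul_cancel, K506.Transl.tr_one]⟩
  have hiso' : IsIso (tr c0).left := Grpsch.MulFin.isIso_left _
  have hpt : ∀ x : 𝟙_ (Over (Spec (CommRingCat.of k))) ⟶ X, (tr c0).left (pt x) = pt (x * c0) := by
    intro x
    have e1 : x ≫ tr c0 = x * c0 := by
      rw [K506.Transl.comp_tr, toUnit_unique (toUnit (𝟙_ (Over (Spec (CommRingCat.of k))))) (𝟙 _), Category.id_comp]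
    rw [← e1]
    rfl
  refine ⟨(tr c0).left ⁻¹' t, (hScl t ht).preimage (tr c0).left.continuous, ?_, ?_, fun x hx => ?_, ?_⟩
  · have hh := (tr c0).left.homeomorph
    have h3 : (tr c0).left ⁻¹' t = (tr c0).left.homeomorph.symm '' t := by
      rw [Homeomorph.image_symm]
      rfl
    rw [h3]
    exact (hSirr t ht).image _ (tr c0).left.homeomorph.symm.continuous.continuousOn
  · change (tr c0).left (pt 1) ∈ t
    rw [hpt, one_mul]
    exact hc0
  · have h4 : pt (x * c0) ∈ t := by
      rw [← hpt]
      exact hx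
    have h5 := (hZc _).mp (htZ h4)
    rw [K506.Transl.phi_mul, (hZc c0).mp (htZ hc0), mul_one] at h5
    exact h5
  · intro hfin
    apply htinf
    have h6 : {x : 𝟙_ (Over (Spec (CommRingCat.of k))) ⟶ X | pt x ∈ t} ⊆
        (fun x => x * c0) '' {x | pt x ∈ (tr c0).left ⁻¹' t} := by
      intro x hx
      refine ⟨x * c0⁻¹, ?_, by simp⟩
      change (tr c0).left (pt (x * c0⁻¹)) ∈ t
      rw [hpt, inv_mul_cancel_right]
      exact hx
    exact (hfin.image _).subset h6

/-- A positive-dimensional abelian subvariety contained in `K(c)`. -/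
theorem exists_sub (c : Pic X.left) (hc : ¬ ND c) :
    ∃ (B : Over (Spec (CommRingCat.of k))) (_ : GrpObj B) (i : B ⟶ X), IsMonHom i ∧ IsClosedImmersion i.left ∧
      IsProper B.hom ∧ GeometricallyIntegral B.hom ∧
      (∀ b : 𝟙_ (Over (Spec (CommRingCat.of k))) ⟶ B, phi c (b ≫ i) = 1) ∧
      (Set.univ : Set (𝟙_ (Over (Spec (CommRingCat.of k))) ⟶ B)).Infinite := by
  obtain ⟨V, hV, hVirr, hV1, hVc, hVinf⟩ := exists_irr c hc
  obtain ⟨B, _, i, hi, hcl, hint, hVi, hBV⟩ := K528.Gen.exists_generated X V hV hVirr hV1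
  have hBp : IsProper B.hom := by
    rw [← Over.w i]
    infer_instance
  have hred : GeometricallyReduced B.hom := Sga3C.GeomRedPerf.geometricallyReduced_of_isReduced B.hom
  have hirr : GeometricallyIrreducible B.hom :=
    Fdesc.GeomAlgClosed.geometricallyIrreducible_of_irreducibleSpace B.hom
  refine ⟨B, inferInstance, i, hi, hcl, hBp,
    GeometricallyIntegral.of_geometricallyReduced_of_geometricallyIrreducible B.hom, fun b => ?_, ?_⟩
  · -- the subgroup of `x` with `φ_c(x) = 1`
    let K : Subgroup (𝟙_ (Over (Spec (CommRingCat.of k))) ⟶ X) :=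
      { carrier := {x | phi c x = 1}
        mul_mem' := fun {x y} hx hy => by
          rw [Set.mem_ofPred_eq] at hx hy ⊢
          rw [K506.Transl.phi_mul, hx, hy, one_mul]
        one_mem' := K506.Transl.phi_one c
        inv_mem' := fun {x} hx => by
          rw [Set.mem_ofPred_eq] at hx ⊢
          rw [K506.Transl.phi_inv, hx, inv_one] }
    have h1 : Subgroup.closure {x : 𝟙_ (Over (Spec (CommRingCat.of k))) ⟶ X | Groth.Agent.Books.AlgPts.pt x ∈ V} ≤ K := by
      rw [Subgroup.closure_le]
      intro x hx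
      exact hVc x hx
    exact h1 (hBV b)
  · intro hfin
    apply hVinf
    refine (hfin.image fun b => b ≫ i).subset fun x hx => ?_
    obtain ⟨z, hz⟩ := hVi hx
    have hzcl : IsClosed ({z} : Set B.left) := by
      have h2 : ({z} : Set B.left) = i.left ⁻¹' {pt x} := by
        ext w
        simp only [Set.mem_singleton_iff, Set.mem_preimage, ← hz]
        exact ⟨fun h => by rw [h], fun h => i.left.isClosedEmbedding.injective h⟩
      rw [h2]
      exact (K512.Pts.isClosed_pt x).preimage i.left.continuous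
    obtain ⟨b, hb⟩ := K512.Pts.exists_pt z hzcl
    refine ⟨b, trivial, K512.Pts.ext_pt ?_⟩
    change i.left (b.left _) = _
    rw [hb, hz]

/-- A degenerate class becomes acyclic after a suitable twist by an element `φ_H(x)` of `Pic⁰`. -/
theorem exists_acyc (c : Pic X.left) (hc : ¬ ND c) :
    ∃ (H : Pic X.left) (x : 𝟙_ (Over (Spec (CommRingCat.of k))) ⟶ X), ∀ n, Van (c * phi H x) n := by
  obtain ⟨B, _, i, hi, hcl, hBp, hBi, hKc, hinf⟩ := exists_sub c hc
  have hint : IsIntegral B.left := isIntegral_left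
  obtain ⟨L, hL⟩ := Groth.Agent.S1841.result k X
  -- `H|_B` is nondegenerate
  have hBamp : CohB1.IsAmple ((Scheme.Modules.pullback i.left).obj L) :=
    Groth.Agent.Sga5.AmpleFib.isAmple_pullback _ hL
  have hND : ND (pl i (mk L hL.1)) := by
    rw [pull_mk, nd_iff]
    exact Groth.Agent.S12002.result k B _ hBamp
  obtain ⟨b, hb⟩ : ∃ b : 𝟙_ (Over (Spec (CommRingCat.of k))) ⟶ B, phi (pl i (mk L hL.1)) b ≠ 1 := by
    by_contra hcon
    push Not at hcon
    exact hinf (hND.subset fun b _ => hcon b)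
  obtain ⟨x, hx, hxi⟩ : ∃ x : 𝟙_ (Over (Spec (CommRingCat.of k))) ⟶ X,
      pl i (c * phi (mk L hL.1) x) ≠ 1 ∧ True := by
    by_cases h1 : pl i c = 1
    · refine ⟨b ≫ i, ?_, trivial⟩
      rw [map_mul, h1, one_mul, ← phi_pl]
      exact hb
    · refine ⟨1, ?_, trivial⟩
      rw [K506.Transl.phi_one, mul_one]
      exact h1
  refine ⟨mk L hL.1, x, ?_⟩
  set d := c * phi (mk L hL.1) x with hd
  have hphi : ∀ b : 𝟙_ (Over (Spec (CommRingCat.of k))) ⟶ B, phi d (b ≫ i) = 1 := by
    intro b
    rw [hd, K506.Transl.phi_cmul, hKc b, one_mul]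
    exact (K506.Transl.inv_iff_phi _).mp (K506.Transl.phi_transl _ x) _
  -- `i^*d ∈ Pic⁰(B)`
  have hinv : Inv (pl i d) := by
    rw [K506.Transl.inv_iff_phi]
    intro b
    rw [phi_pl, hphi, map_one]
  have hvanB : ∀ n, Van (pl i d) n := van (K506.Transl.pl_mu hinv) hx
  clear_value d
  -- the see-saw
  have key : pl ((fst B X ≫ i) * snd B X) d = pl (fst B X) (pl i d) * pl (snd B X) d := by
    rw [← mul_inv_eq_one]
    refine K518.Phi.seesaw _ (fun w => ?_) ?_
    · have e1 : lift (toUnit X ≫ w) (𝟙 X) ≫ ((fst B X ≫ i) * snd B X) = tr (w ≫ i) := by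
        rw [MonObj.comp_mul, ← Category.assoc, lift_fst, lift_snd, Category.assoc, tr]
        exact K506.Transl.mul_comm_hom _ _
      rw [map_mul, map_inv, map_mul, ← pl_comp, ← pl_comp, ← pl_comp, ← pl_comp, e1, lift_fst,
        lift_snd, Category.assoc, Groth.Agent.Sga7.H260.Square.pl_const, one_mul, pl_id, mul_inv_eq_one]
      have h5 := hphi w
      unfold phi at h5
      rwa [mul_inv_eq_one] at h5
    · have e1 : lift (𝟙 B) (1 : B ⟶ X) ≫ ((fst B X ≫ i) * snd B X) = i := by
        rw [MonObj.comp_mul, ← Category.assoc, lift_fst, lift_snd, Category.id_comp, mul_one]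
      rw [map_mul, map_inv, map_mul, ← pl_comp, ← pl_comp, ← pl_comp, ← pl_comp, e1, lift_fst,
        lift_snd, Category.id_comp, pl_one, mul_one, mul_inv_cancel]
  intro n
  have hiso : IsIso (shear i).hom.left := Grpsch.MulFin.isIso_left _
  have h1 : Van (pl (fst B X) (pl i d) * pl (snd B X) d) n := by
    rw [van_box_iff]
    intro a b _
    exact Or.inl (hvanB a)
  have h2 : pl (shear i).hom (pl (snd B X) d) = pl (fst B X) (pl i d) * pl (snd B X) d := by
    rw [← pl_comp, shear_hom_snd, key]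
  rw [← h2, van_pull_iso] at h1
  have h3 : pl (snd B X) d = pl (fst B X) 1 * pl (snd B X) d := by rw [map_one, one_mul]
  rw [h3, van_box_iff] at h1
  rcases h1 0 n (zero_add n) with h4 | h4
  · exact absurd h4 not_van_one
  · exact h4

end Alg

end K524.Degen
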