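import Groth.Agent.AbVar.K524.Num
import Groth.Agent.AbVar.K524.Degen

/-!
# Euler characteristics of classes on abelian varieties

* `chi c`: the Euler characteristic of a class; `chi_mk`.
* `chi_slices`: constancy of the Euler characteristic of the slices `A × {y}`.
* `chi_mul_phi`: `χ(c φ_H(x)) = χ(c)`.
* `chi_eq_zero`: `χ(c) = 0` for `c` degenerate (`k` algebraically closed); `nd_of_chi`.
-/

set_option autoImplicit false
universe u

open CategoryTheory CategoryTheory.Limits MonoidalCategory CartesianMonoidalCategory AlgebraicGeometry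
open scoped MonObj
open Groth.Agent Groth.Agent.Grpsch.PicGrp Groth.Agent.Grpsch.Cube K524.Kun K524.PicZeroVan K512.Slice K524.Index
open K506.Transl (tr phi Inv)

namespace K524.Chi

variable {k : Type u} [Field k]

theorem euler_congr (k : Type u) [Field k] (X : Scheme.{u}) [X.Over (Spec (CommRingCat.of k))]
    {M N : X.Modules} (e : M ≅ N) : Curv2.euler k X M = Curv2.euler k X N := by
  unfold Curv2.euler
  exact finsum_congr fun i => by rw [(CurvesA.HHMap.equivOver k e i).finrank_eq]

/-- The Euler characteristic of a class. -/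
noncomputable def chi {X : Over (Spec (CommRingCat.of k))} (c : Pic X.left) : ℤ :=
  @Curv2.euler k _ X.left ⟨X.hom⟩ (exists_mk c).choose

theorem chi_mk {X : Over (Spec (CommRingCat.of k))} {L : X.left.Modules} (hL : PicF.IsInvertible L) :
    chi (mk L hL) = @Curv2.euler k _ X.left ⟨X.hom⟩ L := by
  obtain ⟨h1, h2⟩ := (exists_mk (mk L hL)).choose_spec
  obtain ⟨e⟩ := (mk_eq_iff hL h1).mp h2
  let _ : X.left.Over (Spec (CommRingCat.of k)) := ⟨X.hom⟩
  exact (euler_congr k X.left e).symm

theorem chi_of_van {X : Over (Spec (CommRingCat.of k))} {c : Pic X.left} (h : ∀ n, Van c n) : chi c = 0 := by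
  obtain ⟨L, hL, rfl⟩ := exists_mk c
  rw [chi_mk]
  unfold Curv2.euler
  let _ : X.left.Over (Spec (CommRingCat.of k)) := ⟨X.hom⟩
  rw [← finsum_zero (α := ℕ) (M := ℤ)]
  refine finsum_congr fun i => ?_
  have := (van_mk hL i).mp (h i)
  rw [Module.finrank_zero_of_subsingleton]
  simp

theorem chi_slices {A B : Over (Spec (CommRingCat.of k))} [IsProper A.hom] [LocallyOfFiniteType B.hom]
    [PreconnectedSpace B.left] (N : Pic (A ⊗ B).left)
    (y y' : 𝟙_ (Over (Spec (CommRingCat.of k))) ⟶ B) : chi (pl (j2 A y) N) = chi (pl (j2 A y') N) := by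
  obtain ⟨F, hF, rfl⟩ := exists_mk N
  have i1 : IsProper (snd A B).left := isProper_snd
  have i2 : Flat (snd A B).left := flat_snd
  have i3 : LocallyOfFinitePresentation (snd A B).left := by rw [Over.snd_left]; infer_instance
  have hFP : CohB1.IsFP F :=
    Desc.FinLocFreeSections.isFP_of_isFinLocFree (Grpsch.CubeClosed.isFinLocFree_of_isInvertible hF)
  have h1 := Groth.Agent.S1026.result (snd A B).left F hFP
    (Grpsch.CubeClosed.isFlatOver_of_isInvertible (snd A B).left hF)
  let _ : A.left.Over (Spec (CommRingCat.of k)) := ⟨A.hom⟩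
  have hp : IsProper (A.left ↘ (Spec (CommRingCat.of k))) := ‹IsProper A.hom›
  have key : ∀ y : 𝟙_ (Over (Spec (CommRingCat.of k))) ⟶ B, chi (pl (j2 A y) (mk F hF)) =
      PerfAux.eulerChar (snd A B).left F (y.left (IsLocalRing.closedPoint k)) := by
    intro y
    rw [pull_mk, chi_mk]
    have h2 := PerfB.Semi.eulerChar_eq' (isPullback_left_j2 (A := A) y) hFP (Iso.refl _) (IsLocalRing.closedPoint k)
    rw [← h2]
    exact (Num.euler_eq_eulerChar k (IsLocalRing.closedPoint k) ((Scheme.Modules.pullback (j2 A y).left).obj F)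
      (isQCoh_of_isInvertible (Fdesc.LocGen.isInvertible_pullback _ hF))).symm
  rw [key, key]
  exact h1.apply_eq_of_preconnectedSpace _ _

variable {X : Over (Spec (CommRingCat.of k))} [GrpObj X] [IsProper X.hom] [GeometricallyIntegral X.hom]

/-- `χ(c φ_H(x)) = χ(c)`. -/
theorem chi_mul_phi (c H : Pic X.left) (x : 𝟙_ (Over (Spec (CommRingCat.of k))) ⟶ X) :
    chi (c * phi H x) = chi c := by
  have hint : IsIntegral X.left := isIntegral_left
  have h1 : ∀ x : 𝟙_ (Over (Spec (CommRingCat.of k))) ⟶ X,
      pl (j2 X x) (pl (fst X X) c * Degen.mum H) = c * phi H x := by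
    intro x
    rw [map_mul, Degen.mum_j2, ← pl_comp, j2_fst]
    congr 1
    exact (congrArg (fun g => pull g _) (Over.id_left X)).trans (pull_id _)
  rw [← h1 x, chi_slices _ x 1, h1, K506.Transl.phi_one, mul_one]

/-- The Euler characteristic of a degenerate class vanishes. -/
theorem chi_eq_zero [IsAlgClosed k] (c : Pic X.left) (hc : ¬ ND c) : chi c = 0 := by
  obtain ⟨H, x, h⟩ := Degen.exists_acyc c hc
  rw [← chi_mul_phi c H x]
  exact chi_of_van h

theorem nd_of_chi [IsAlgClosed k] {c : Pic X.left} (hc : chi c ≠ 0) : ND c := by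
  by_contra h
  exact hc (chi_eq_zero c h)

end K524.Chi
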