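import Groth.Agent.AbVar.K524.Key
import Groth.Agent.AbVar.K506.Transl
import Groth.Agent.AbVar.K512.Phi
import Groth.Agent.Grpsch.MulFin

/-!
# The index of a nondegenerate class on an abelian variety over an algebraically closed field

* `HasIdx c i`: the cohomology of `c` is concentrated in degree `i` and nonzero there.
* `exists_idx`: `f : X ⟶ Y` a homomorphism, `dim X ≤ g = dim Y`, `c` a class on `Y` such that `f^* φ_c(y) = 1` for finitely
  many rational points `y` only; then there is `i ≤ g` with `HasIdx c i` and `HasIdx (f^*c)⁻¹ (g - i)`.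
* `exists_idx_self`, `HasIdx.inv`, `HasIdx.pullback` (isogenies), `HasIdx.mul_inv` (twist by `Pic⁰`).
-/

set_option autoImplicit false
universe u

open CategoryTheory CategoryTheory.Limits MonoidalCategory CartesianMonoidalCategory AlgebraicGeometry
open scoped MonObj
open Groth.Agent Groth.Agent.Grpsch.PicGrp Groth.Agent.Grpsch.Cube K524.Kun K524.PicZeroVan K512.Slice
open K506.Transl (tr phi Inv)

namespace K524.Index

/-- The cohomology of `c` is concentrated in degree `i` and nonzero there. -/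
def HasIdx {X : Scheme.{u}} (c : Pic X) (i : ℕ) : Prop := (∀ j, j ≠ i → Van c j) ∧ ¬ Van c i

theorem HasIdx.unique {X : Scheme.{u}} {c : Pic X} {i j : ℕ} (h : HasIdx c i) (h' : HasIdx c j) : i = j := by
  by_contra hne
  exact h'.2 (h.1 j (Ne.symm hne))

theorem hasIdx_mk {X : Scheme.{u}} {L : X.Modules} (hL : PicF.IsInvertible L) (i : ℕ) :
    HasIdx (mk L hL) i ↔ (∀ j, j ≠ i → Subsingleton (Coh.HH X L j)) ∧ Nontrivial (Coh.HH X L i) := by
  unfold HasIdx
  simp only [van_mk, not_subsingleton_iff_nontrivial]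

theorem hasIdx_pull_iso {X Y : Scheme.{u}} (e : X ⟶ Y) [IsIso e] (c : Pic Y) (i : ℕ) :
    HasIdx (pull e c) i ↔ HasIdx c i := by
  unfold HasIdx
  simp only [van_pull_iso]

variable {k : Type u} [Field k] [IsAlgClosed k]

omit [IsAlgClosed k] in
/-- Künneth for the index. -/
theorem HasIdx.box {X Y : Over (Spec (CommRingCat.of k))} [IsProper X.hom] [IsProper Y.hom] {c : Pic X.left}
    {d : Pic Y.left} {i j : ℕ} (h : HasIdx c i) (h' : HasIdx d j) :
    HasIdx (pl (fst X Y) c * pl (snd X Y) d) (i + j) := by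
  constructor
  · intro n hn
    rw [van_box_iff]
    intro a b hab
    by_cases ha : a = i
    · right
      exact h'.1 b (by omega)
    · left
      exact h.1 a ha
  · rw [van_box_iff]
    intro hc
    rcases hc i j rfl with h1 | h1
    · exact h.2 h1
    · exact h'.2 h1

theorem isFinite_preimage {X Y : Over (Spec (CommRingCat.of k))} [LocallyOfFiniteType X.hom] (φ : X ⟶ Y)
    [IsFinite φ.left] {S : Set (𝟙_ (Over (Spec (CommRingCat.of k))) ⟶ Y)} (hS : S.Finite) :
    {x : 𝟙_ (Over (Spec (CommRingCat.of k))) ⟶ X | x ≫ φ ∈ S}.Finite := by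
  have h1 : (φ.left ⁻¹' ((fun y : 𝟙_ (Over (Spec (CommRingCat.of k))) ⟶ Y =>
      y.left (IsLocalRing.closedPoint k)) '' S)).Finite := by
    have h2 := hS.image (fun y : 𝟙_ (Over (Spec (CommRingCat.of k))) ⟶ Y => y.left (IsLocalRing.closedPoint k))
    rw [← Set.biUnion_preimage_singleton]
    exact h2.biUnion fun z _ => φ.left.finite_preimage_singleton z
  refine Set.Finite.of_finite_image (f := fun x : 𝟙_ (Over (Spec (CommRingCat.of k))) ⟶ X =>
    x.left (IsLocalRing.closedPoint k)) (h1.subset ?_) ?_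
  · rintro _ ⟨x, hx, rfl⟩
    exact ⟨x ≫ φ, hx, rfl⟩
  · intro x _ y _ hxy
    exact K512.Pts.ext_pt hxy

variable {X Y : Over (Spec (CommRingCat.of k))} [GrpObj X] [GrpObj Y] [IsProper X.hom] [IsProper Y.hom]
  [GeometricallyIntegral X.hom] [GeometricallyIntegral Y.hom]

omit [IsAlgClosed k] [GrpObj X] [IsProper X.hom] [IsProper Y.hom] [GeometricallyIntegral X.hom]
  [GeometricallyIntegral Y.hom] in
theorem slice_eq (f : X ⟶ Y) (c : Pic Y.left) (y : 𝟙_ (Over (Spec (CommRingCat.of k))) ⟶ Y) :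
    pl (j2 X y) (pl (shear f).hom (pl (fst X Y) (pl f c)⁻¹ * pl (snd X Y) c)) = pl f (phi c y) := by
  have h1 : j2 X y ≫ (shear f).hom ≫ fst X Y = 𝟙 X := by rw [shear_hom_fst, j2_fst]
  have h2 : j2 X y ≫ (shear f).hom ≫ snd X Y = f ≫ tr y := by
    rw [shear_hom_snd, MonObj.comp_mul, ← Category.assoc, j2_fst, j2_snd, Category.id_comp, K506.Transl.comp_tr]
  rw [← pl_comp, map_mul, ← pl_comp, ← pl_comp, Category.assoc, Category.assoc, h1, h2, pl_comp]
  unfold phi
  rw [map_mul, map_inv, map_inv, mul_comm]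
  congr 2
  exact (congrArg (fun g => pull g _) (Over.id_left X)).trans (pull_id _)

omit [IsAlgClosed k] [IsProper X.hom] [IsProper Y.hom] [GeometricallyIntegral X.hom]
  [GeometricallyIntegral Y.hom] in
theorem Add.pullback {d : Pic Y.left} (hd : PicZeroVan.Add d) (f : X ⟶ Y) [IsMonHom f] :
    PicZeroVan.Add (pl f d) := by
  unfold PicZeroVan.Add
  rw [← pl_comp, ← pl_comp, ← pl_comp, ← hd.pl_mul]
  congr 2
  rw [IsMonHom.mul_hom, Hom.mul_def]
  congr 1

/-- The main theorem. -/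
theorem exists_idx (f : X ⟶ Y) [IsMonHom f] (g : ℕ) (hg : topologicalKrullDim Y.left = g)
    (hX : topologicalKrullDim X.left ≤ g) (c : Pic Y.left) (hfin : {y | pl f (phi c y) = 1}.Finite) :
    ∃ i, i ≤ g ∧ HasIdx c i ∧ HasIdx (pl f c)⁻¹ (g - i) := by
  have hsm : Smooth Y.hom := Groth.Agent.Grpsch.AbBC.smooth_hom Y
  have hiso : IsIso (shear f).hom.left := Grpsch.MulFin.isIso_left _
  have hac : ∀ y, y ∉ {y | pl f (phi c y) = 1} →
      AcycCls (pl (j2 X y) (pl (shear f).hom (pl (fst X Y) (pl f c)⁻¹ * pl (snd X Y) c))) := by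
    intro y hy
    rw [slice_eq, Key.acycCls_iff]
    exact van (Add.pullback (K506.Transl.pl_mu (K506.Transl.phi_transl c y)) f) hy
  have h1 : ∀ n, n ≠ g → Van (pl (fst X Y) (pl f c)⁻¹ * pl (snd X Y) c) n := by
    intro n hn
    rw [← van_pull_iso (shear f).hom.left]
    exact Key.van_of_slices g hg hX _ _ hfin hac n hn
  have h2 : ¬ ∀ n, Van (pl (fst X Y) (pl f c)⁻¹ * pl (snd X Y) c) n := by
    intro hall
    have h3 : AcycCls (pl (shear f).hom (pl (fst X Y) (pl f c)⁻¹ * pl (snd X Y) c)) := by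
      rw [Key.acycCls_iff]
      intro n
      rw [van_pull_iso]
      exact hall n
    have h4 := acyc_j2 _ h3 _ hfin hac 1
    rw [slice_eq, K506.Transl.phi_one, map_one] at h4
    have : IsIntegral X.left := isIntegral_left
    exact not_acycCls_one h4
  have h3 : ¬ Van (pl (fst X Y) (pl f c)⁻¹ * pl (snd X Y) c) g := by
    intro h
    apply h2
    intro n
    by_cases hn : n = g
    · rwa [hn]
    · exact h1 n hn
  rw [van_box_iff] at h3
  push Not at h3
  obtain ⟨a, b, hab, ha, hb⟩ := h3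
  have h4 : ∀ a' b', a' + b' ≠ g → Van (pl f c)⁻¹ a' ∨ Van c b' := fun a' b' hab' => by
    have := h1 (a' + b') hab'
    rw [van_box_iff] at this
    exact this a' b' rfl
  refine ⟨b, by omega, ⟨fun j hj => ?_, hb⟩, ⟨fun j hj => ?_, ?_⟩⟩
  · rcases h4 a j (by omega) with h5 | h5
    · exact absurd h5 ha
    · exact h5
  · rcases h4 j b (by omega) with h5 | h5
    · exact h5
    · exact absurd h5 hb
  · have : g - b = a := by omega
    rw [this]
    exact ha

section Self

/-- Nondegenerate classes. -/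
def ND (c : Pic X.left) : Prop := {x : 𝟙_ (Over (Spec (CommRingCat.of k))) ⟶ X | phi c x = 1}.Finite

omit [IsProper X.hom] [GeometricallyIntegral X.hom] [IsAlgClosed k] in
theorem nd_iff {L : X.left.Modules} (hL : PicF.IsInvertible L) :
    ND (mk L hL) ↔ (Set.Finite {x : 𝟙_ (Over (Spec (CommRingCat.of k))) ⟶ X |
      Nonempty ((Scheme.Modules.pullback (𝟙 X * (toUnit X ≫ x)).left).obj L ≅ L)}) := by
  unfold ND
  congr! 3 with x
  rw [phi, mul_inv_eq_one, show pl (tr x) (mk L hL) = Groth.Agent.Grpsch.PicGrp.mk _ _ from pull_mk _ hL, mk_eq_iff]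

omit [IsProper X.hom] [GeometricallyIntegral X.hom] [IsAlgClosed k] in
theorem phi_cinv (c : Pic X.left) (x : 𝟙_ (Over (Spec (CommRingCat.of k))) ⟶ X) : phi c⁻¹ x = (phi c x)⁻¹ := by
  unfold phi
  rw [map_inv, mul_inv]

omit [IsProper X.hom] [GeometricallyIntegral X.hom] [IsAlgClosed k] in
theorem ND.inv {c : Pic X.left} (hc : ND c) : ND c⁻¹ := by
  unfold ND
  simp only [phi_cinv, inv_eq_one]
  exact hc

theorem finite_pow_mem {S : Set (𝟙_ (Over (Spec (CommRingCat.of k))) ⟶ X)} (hS : S.Finite) {n : ℕ} (hn : 1 ≤ n) :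
    {x : 𝟙_ (Over (Spec (CommRingCat.of k))) ⟶ X | x ^ n ∈ S}.Finite := by
  have := Grpsch.MulFin.isFinite_pow X n hn
  have h := isFinite_preimage (𝟙 X ^ n) hS
  simp only [MonObj.comp_pow, Category.comp_id] at h
  exact h

theorem ND.pow {c : Pic X.left} (hc : ND c) {n : ℕ} (hn : 1 ≤ n) : ND (c ^ n) := by
  unfold ND
  simp only [K506.Transl.phi_cpow, ← K506.Transl.phi_pow]
  exact finite_pow_mem hc hn

theorem pl_id (c : Pic X.left) : pl (𝟙 X) c = c := (congrArg (fun g => pull g _) (Over.id_left X)).trans (pull_id _)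

theorem ND.exists_idx (g : ℕ) (hg : topologicalKrullDim X.left = g) {c : Pic X.left} (hc : ND c) :
    ∃ i, i ≤ g ∧ HasIdx c i ∧ HasIdx c⁻¹ (g - i) := by
  have h := Index.exists_idx (𝟙 X) g hg hg.le c (by simp only [pl_id]; exact hc)
  rwa [pl_id] at h

theorem HasIdx.inv (g : ℕ) (hg : topologicalKrullDim X.left = g) {c : Pic X.left} (hc : ND c) {i : ℕ}
    (hi : HasIdx c i) : i ≤ g ∧ HasIdx c⁻¹ (g - i) := by
  obtain ⟨j, hj, h1, h2⟩ := hc.exists_idx g hg
  rw [hi.unique h1]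
  exact ⟨hj, h2⟩

/-- Twisting by `Pic⁰`. -/
theorem HasIdx.twist {c p : Pic X.left} (hc : ND c) (hp : Inv p) {i : ℕ} (hi : HasIdx c i) : HasIdx (c * p) i := by
  obtain ⟨x, hx⟩ := K512.Phi.exists_eq (A := X) (K512.Phi.van_of_mul fun d h1 h2 => by
      rw [Key.acycCls_iff]
      exact van h1 h2) c p (by
    have h1 : {x : 𝟙_ (Over (Spec (CommRingCat.of k))) ⟶ X | pl (tr x) c = c} = {x | phi c x = 1} := by
      ext x
      simp only [Set.mem_ofPred_eq, phi, mul_inv_eq_one]
    exact h1 ▸ hc) hp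
  rw [← hx]
  have : IsIso (tr x) := ⟨tr x⁻¹, by rw [K506.Transl.tr_comp_tr, mul_inv_cancel, K506.Transl.tr_one],
    by rw [K506.Transl.tr_comp_tr, inv_mul_cancel, K506.Transl.tr_one]⟩
  have : IsIso (tr x).left := Grpsch.MulFin.isIso_left _
  rwa [hasIdx_pull_iso]

theorem ND.twist {c p : Pic X.left} (hc : ND c) (hp : Inv p) : ND (c * p) := by
  unfold ND
  simp only [K506.Transl.phi_cmul, (K506.Transl.inv_iff_phi p).mp hp, mul_one]
  exact hc

end Self

/-- Finiteness for an isogeny. -/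
theorem finite_of_quasiInv (f : X ⟶ Y) (h : Y ⟶ X) {n : ℕ} (hn : 1 ≤ n) (hh : h ≫ f = 𝟙 Y ^ n)
    {c : Pic Y.left} (hc : ND c) : {y | pl f (phi c y) = 1}.Finite := by
  refine (finite_pow_mem hc hn).subset fun y hy => ?_
  have h1 : pl h (pl f (phi c y)) = 1 := by rw [Set.mem_ofPred_eq.mp hy, map_one]
  rw [← pl_comp, hh] at h1
  have h2 : ∀ m : ℕ, pl (𝟙 Y ^ m) (phi c y) = phi c y ^ m := by
    intro m
    induction m with
    | zero => rw [pow_zero, pow_zero, pl_one]
    | succ m ih => rw [pow_succ, pow_succ, K506.Transl.pl_mul_of_inv (K506.Transl.phi_transl c y), ih, pl_id]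
  rw [h2, ← K506.Transl.phi_pow] at h1
  exact h1

theorem phi_pl (f : X ⟶ Y) [IsMonHom f] (c : Pic Y.left) (x : 𝟙_ (Over (Spec (CommRingCat.of k))) ⟶ X) :
    phi (pl f c) x = pl f (phi c (x ≫ f)) := by
  unfold phi
  rw [map_mul, map_inv, ← pl_comp, ← pl_comp, K506.Transl.comp_tr, MonObj.mul_comp, Category.id_comp, Category.assoc]

theorem ND.pullback (f : X ⟶ Y) [IsMonHom f] [IsFinite f.left] (h : Y ⟶ X) {n : ℕ} (hn : 1 ≤ n)
    (hh : h ≫ f = 𝟙 Y ^ n) {c : Pic Y.left} (hc : ND c) : ND (pl f c) := by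
  unfold ND
  simp only [phi_pl]
  exact isFinite_preimage f (finite_of_quasiInv f h hn hh hc)

/-- Isogeny invariance of the index. -/
theorem HasIdx.pullback (f : X ⟶ Y) [IsMonHom f] (h : Y ⟶ X) {n : ℕ} (hn : 1 ≤ n) (hh : h ≫ f = 𝟙 Y ^ n) (g : ℕ)
    (hg : topologicalKrullDim Y.left = g) (hX : topologicalKrullDim X.left ≤ g) {c : Pic Y.left} (hc : ND c) {i : ℕ}
    (hi : HasIdx c i) : HasIdx (pl f c) i := by
  obtain ⟨h1, h2⟩ := HasIdx.inv g hg hc hi
  obtain ⟨j, hj, h3, h4⟩ := exists_idx f g hg hX c⁻¹ (finite_of_quasiInv f h hn hh hc.inv)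
  have h5 : j = g - i := h3.unique h2
  rw [map_inv, inv_inv, h5] at h4
  have h6 : g - (g - i) = i := by omega
  rwa [h6] at h4

end K524.Index
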