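import Groth.Agent.AbVar.K524.FinSupp
import Groth.Agent.AbVar.K524.PicZeroVan
import Groth.Agent.AbVar.K512.Slice
import Groth.Agent.Sga5.SmoothField
import Groth.Agent.CalgB.Depth1
import Groth.Agent.S0354
import Groth.Agent.S0458

/-!
# Classes on `A × B` whose slices `A × {y}` are acyclic for almost all `y`

`van_of_slices`: `k` algebraically closed, `A`, `B` proper, `B` a smooth group of dimension `g`, `dim A ≤ g`, `N` a class on
`A × B` whose slices `A × {y}` are acyclic for all but finitely many rational points `y`: then `H^n(A × B, N) = 0` for `n ≠ g`.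
-/

set_option autoImplicit false
universe u

open CategoryTheory CategoryTheory.Limits MonoidalCategory CartesianMonoidalCategory AlgebraicGeometry
open scoped MonObj
open Groth.Agent Groth.Agent.Grpsch.PicGrp Groth.Agent.Grpsch.Cube K524.Kun K524.PicZeroVan K512.Slice

namespace K524.Key

theorem isIso_residueFieldMap_of_section {X S : Scheme.{u}} (a : S ⟶ X) (p : X ⟶ S) (h : a ≫ p = 𝟙 S) (s : S) :
    IsIso (a.residueFieldMap s) := by
  have h1 : IsIso (a ≫ p) := by rw [h]; infer_instance
  have h2 : IsIso ((a ≫ p).residueFieldMap s) := inferInstance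
  rw [Scheme.residueFieldMap_comp] at h2
  rw [ConcreteCategory.isIso_iff_bijective]
  refine ⟨(a.residueFieldMap s).hom.injective, ?_⟩
  have h3 := ((ConcreteCategory.isIso_iff_bijective _).mp h2).2
  intro y
  obtain ⟨z, hz⟩ := h3 y
  exact ⟨_, (CommRingCat.comp_apply _ _ z).symm.trans hz⟩

/-- Vanishing on the fibre over the image of a section-like point. -/
theorem van_fiber_iff {X X' S S' : Scheme.{u}} {i' : X ⟶ X'} {f : X ⟶ S} {f' : X' ⟶ S'} {i : S ⟶ S'}
    (h : IsPullback i' f f' i) (s : S) [IsIso (i.residueFieldMap s)] [IsIso (f.fiberι s)] (c : Pic X') (p : ℕ) :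
    Van (pull (f'.fiberι (i s)) c) p ↔ Van (pull i' c) p := by
  rw [← van_pull_iso (Fdesc.FlatStalk.fiberIso h s).hom, ← pull_comp, Flat2H.ThickFibre.fiberIso_hom_ι h s,
    pull_comp, van_pull_iso]

theorem acycCls_iff {X : Scheme.{u}} (c : Pic X) : AcycCls c ↔ ∀ n, Van c n := by
  obtain ⟨L, hL, rfl⟩ := exists_mk c
  rw [acycCls_mk]
  simp only [van_mk]

theorem hasReg_stalk {k : Type u} [Field k] (B : Over (Spec (CommRingCat.of k))) [GrpObj B] [Smooth B.hom] (g : ℕ)
    (hg : topologicalKrullDim B.left = g) (y : B.left) (hy : IsClosed ({y} : Set B.left)) :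
    FinSupp.HasReg (B.left.presheaf.stalk y) g := by
  have h1 := Groth.Agent.S0354.result k B y hy
  have h2 : IsRegularLocalRing (B.left.presheaf.stalk y) := Groth.Agent.Sga5.SmoothField.isRegularLocalRing_stalk B.hom y
  have h3 := Groth.Agent.Sga5.SmoothField.depth_eq (B.left.presheaf.stalk y)
  rw [h1, hg] at h3
  have h4 : LocCoh.depth (B.left.presheaf.stalk y) (B.left.presheaf.stalk y) = (g : ℕ∞) := by
    have : ((g : ℕ∞) : WithBot ℕ∞) = ((LocCoh.depth (B.left.presheaf.stalk y) (B.left.presheaf.stalk y) : ℕ∞) : WithBot ℕ∞) := h3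
    exact (WithBot.coe_injective this).symm
  exact (CalgB.Depth1.le_depth_iff_weak (R := B.left.presheaf.stalk y) (M := B.left.presheaf.stalk y) g).mp h4.ge

theorem isIso_fiberι_spec {K : Type u} [Field K] {X : Scheme.{u}} (f : X ⟶ Spec (CommRingCat.of K))
    (s : Spec (CommRingCat.of K)) : IsIso (f.fiberι s) := by
  have h1 : IsIso ((Spec (CommRingCat.of K)).fromSpecResidueField s) := by
    have h2 : Surjective ((Spec (CommRingCat.of K)).fromSpecResidueField s) := by
      rw [surjective_iff]
      intro x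
      have : Subsingleton (Spec (CommRingCat.of K)) := inferInstanceAs (Subsingleton (PrimeSpectrum K))
      obtain ⟨y⟩ : Nonempty (Spec ((Spec (CommRingCat.of K)).residueField s)) := inferInstance
      exact ⟨y, Subsingleton.elim _ _⟩
    have h3 : IsClosedImmersion ((Spec (CommRingCat.of K)).fromSpecResidueField s) :=
      IsClosedImmersion.of_isPreimmersion _ (by
        rw [h2.1.range_eq]
        exact isClosed_univ)
    exact isIso_of_isClosedImmersion_of_surjective _
  change IsIso (pullback.fst f ((Spec (CommRingCat.of K)).fromSpecResidueField s))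
  infer_instance

/-- Grothendieck vanishing. -/
theorem van_of_dim {K : Type u} [Field K] {X : Scheme.{u}} (f : X ⟶ Spec (CommRingCat.of K)) [LocallyOfFiniteType f]
    [QuasiCompact f] {g : ℕ} (hX : topologicalKrullDim X ≤ g) (c : Pic X) (p : ℕ) (hp : g < p) : Van c p := by
  obtain ⟨F, hF, rfl⟩ := exists_mk c
  rw [van_mk]
  have h1 : IsLocallyNoetherian X := LocallyOfFiniteType.isLocallyNoetherian f
  have h2 : CompactSpace X := QuasiCompact.compactSpace_of_compactSpace f
  have h3 : IsNoetherian X := { }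
  have h4 : TopologicalSpace.NoetherianSpace X.toTopCat := inferInstanceAs (TopologicalSpace.NoetherianSpace X)
  exact Groth.Agent.S0458.result (X := X.toTopCat) g hX (Coh.toAb F) p hp

variable {k : Type u} [Field k] [IsAlgClosed k] {A B : Over (Spec (CommRingCat.of k))}

/-- Fibres outside the exceptional points are acyclic. -/
theorem subsingleton_fiberH [IsProper A.hom] [IsProper B.hom] {F : (A ⊗ B).left.Modules} (hF : PicF.IsInvertible F)
    (Z : Set (𝟙_ (Over (Spec (CommRingCat.of k))) ⟶ B)) (hZ : Z.Finite)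
    (h : ∀ y, y ∉ Z → AcycCls (pl (j2 A y) (mk F hF))) (y : B.left) (p : ℕ)
    (hy : y ∉ (fun t : 𝟙_ (Over (Spec (CommRingCat.of k))) ⟶ B => t.left (IsLocalRing.closedPoint k)) '' Z) :
    Subsingleton (CohIII.fiberH (snd A B).left F y p) := by
  have i1 : IsProper (snd A B).left := isProper_snd
  have i2 : Flat (snd A B).left := flat_snd
  have hcoh := Groth.Agent.S2329.isCoh_of_isInvertible hF
  have hfl := Grpsch.CubeClosed.isFlatOver_of_isInvertible (snd A B).left hF
  have : JacobsonSpace B.left := LocallyOfFiniteType.jacobsonSpace B.hom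
  have hcl : ∀ z ∈ (fun t : 𝟙_ (Over (Spec (CommRingCat.of k))) ⟶ B => t.left (IsLocalRing.closedPoint k)) '' Z,
      IsClosed ({z} : Set B.left) := by
    rintro _ ⟨t, ht, rfl⟩
    exact K512.Pts.isClosed_pt t
  have h1 := K512.FinSupp.subset_of_closedPoints _ (hZ.image _) hcl
    (K512.FinSupp.isOpen_locus (π := (snd A B).left) (F := F)) (fun y hy hyZ => by
      obtain ⟨t, rfl⟩ := K512.Pts.exists_pt y hy
      have ht : t ∉ Z := fun hmem => hyZ ⟨t, hmem, rfl⟩
      have h2 := h t ht
      rw [pull_mk, acycCls_mk, ← fibAcyc_iff B.hom (snd A B).left F hcoh hfl t.left (j2 A t).left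
        (toUnit A).left (isPullback_left_j2 (A := A) t)] at h2
      exact (K512.FinSupp.mem_locus_iff B.hom (snd A B).left F hcoh hfl t.left).mpr h2)
  obtain ⟨W, hW, hyW, hac⟩ := h1 hy
  obtain ⟨x⟩ : Nonempty (Spec (B.left.residueField y)) := inferInstance
  exact K512.FibAcyc.fibre_of_acycOver (snd A B).left F hcoh hfl (B.left.fromSpecResidueField y) _ _
    (IsPullback.of_hasPullback (snd A B).left (B.left.fromSpecResidueField y)) x W hW
    (Set.mem_of_eq_of_mem (Scheme.fromSpecResidueField_apply y x) hyW) hac p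

/-- `k` algebraically closed, `N` a class on `A × B` whose slices `A × {y}` are acyclic for almost all `y`. -/
theorem van_of_slices [IsProper A.hom] [IsProper B.hom] [GrpObj B] [Smooth B.hom] (g : ℕ)
    (hg : topologicalKrullDim B.left = g) (hA : topologicalKrullDim A.left ≤ g) (N : Pic (A ⊗ B).left)
    (Z : Set (𝟙_ (Over (Spec (CommRingCat.of k))) ⟶ B)) (hZ : Z.Finite)
    (h : ∀ y, y ∉ Z → AcycCls (pl (j2 A y) N)) (n : ℕ) (hn : n ≠ g) : Van N n := by
  obtain ⟨F, hF, rfl⟩ := exists_mk N
  rw [van_mk]
  have i1 : IsProper (snd A B).left := isProper_snd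
  have i2 : Flat (snd A B).left := flat_snd
  have hcoh := Groth.Agent.S2329.isCoh_of_isInvertible hF
  have hfl := Grpsch.CubeClosed.isFlatOver_of_isInvertible (snd A B).left hF
  have : IsLocallyNoetherian B.left := LocallyOfFiniteType.isLocallyNoetherian B.hom
  let _ : B.left.Over (Spec (CommRingCat.of k)) := ⟨B.hom⟩
  have hp : IsProper (B.left ↘ (Spec (CommRingCat.of k))) := ‹IsProper B.hom›
  have hpt : ∀ z ∈ (fun t : 𝟙_ (Over (Spec (CommRingCat.of k))) ⟶ B => t.left (IsLocalRing.closedPoint k)) '' Z,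
      IsClosed ({z} : Set B.left) := by
    rintro _ ⟨t, ht, rfl⟩
    exact K512.Pts.isClosed_pt t
  refine FinSupp.subsingleton_HH (k := k) (snd A B).left F hcoh hfl g _ (hZ.image _) hpt
    (fun y p hy => ?_) (fun z hz => hasReg_stalk B g hg z (hpt z hz)) (fun y p hp => ?_) n hn
  · by_contra hc
    have := subsingleton_fiberH hF Z hZ h y p hc
    exact hy Module.finrank_zero_of_subsingleton
  · by_cases hc : y ∈ (fun t : 𝟙_ (Over (Spec (CommRingCat.of k))) ⟶ B => t.left (IsLocalRing.closedPoint k)) '' Z
    · obtain ⟨t, ht, rfl⟩ := hc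
      have h5 : IsIso (t.left.residueFieldMap (IsLocalRing.closedPoint k)) :=
        isIso_residueFieldMap_of_section t.left B.hom (K512.Pts.w_unit t) _
      have h6 : IsIso ((toUnit A).left.fiberι (IsLocalRing.closedPoint k)) := isIso_fiberι_spec _ _
      have h7 : Van (pull (j2 A t).left (mk F hF)) p := van_of_dim A.hom hA _ p hp
      have h8 := (van_fiber_iff (isPullback_left_j2 (A := A) t) (IsLocalRing.closedPoint k) (mk F hF) p).mpr h7
      rw [pull_mk, van_mk] at h8
      have : Subsingleton (CohIII.fiberH (snd A B).left F (t.left (IsLocalRing.closedPoint k)) p) := h8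
      exact Module.finrank_zero_of_subsingleton
    · have := subsingleton_fiberH hF Z hZ h y p hc
      exact Module.finrank_zero_of_subsingleton

end K524.Key
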