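import Groth.Agent.Grpsch.PicGrp
import Groth.Agent.Ega2.VeryAmpleAmple

/-!
# Inverses of invertible modules as classes

* `isInvertible_of_inv`: if `L ⊗ L' ≅ O` with `L` invertible then `L'` is invertible.
* `mk_inv_of`: the class of `L'` is the inverse of the class of `L`.
-/

set_option autoImplicit false
universe u

open CategoryTheory CategoryTheory.Limits AlgebraicGeometry
open Groth.Agent Groth.Agent.Grpsch.PicGrp

namespace K524.PicInv

variable {X : Scheme.{u}}

theorem isInvertible_of_inv {L L' : X.Modules} (hL : PicF.IsInvertible L)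
    (e : CohB1.tensorMod L L' ≅ Coh.structureModule X) : PicF.IsInvertible L' := by
  obtain ⟨L'', hL'', ⟨e'⟩⟩ := exists_inverse hL
  let i : L'' ≅ L' := (Ega2.Tens.runit L'').symm ≪≫ Ega2.Tens.mapTIso (Iso.refl _) e.symm ≪≫
    (Ega2.Tens.assoc _ _ _).symm ≪≫
    Ega2.Tens.mapTIso (Ega2.Tens.swap _ _ ≪≫ e') (Iso.refl _) ≪≫ Ega2.Tens.lunit _
  exact Ega2.VeryAmpleAmple.isInvertible_of_iso i hL''

theorem mk_inv_of {L L' : X.Modules} (hL : PicF.IsInvertible L) (hL' : PicF.IsInvertible L')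
    (e : CohB1.tensorMod L L' ≅ Coh.structureModule X) : mk L' hL' = (mk L hL)⁻¹ := by
  rw [eq_inv_iff_mul_eq_one, mul_comm, mk_mul_mk, one_def, mk_eq_iff]
  exact ⟨e⟩

theorem mk_tensor_of {L M N : X.Modules} (hL : PicF.IsInvertible L) (hM : PicF.IsInvertible M)
    (hN : PicF.IsInvertible N) (e : N ≅ CohB1.tensorMod L M) : mk N hN = mk L hL * mk M hM := by
  rw [mk_mul_mk, mk_eq_iff]
  exact ⟨e⟩

end K524.PicInv
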