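import Groth.Agent.AbVar.K524.AcycCx
import Groth.Agent.Ega3B.Package
import Groth.Agent.S0494
import Groth.Agent.S1526
import Groth.Agent.S0036
import Groth.Agent.Ega3B.RpushAbCmp
import Groth.Agent.Dcoh.DerSch

/-!
# Acyclicity of higher direct images with finite support

`isZero_Rpush`: `f : X ⟶ Y` proper, `Y` locally Noetherian, `F` coherent and flat over `Y`.  If at every point `y` at which
some Betti number in degree `< g` of the fibre is nonzero the local ring has a weakly regular sequence of length `g`, then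
`R^p f_* F = 0` for `p < g`.

`subsingleton_HH`: if moreover the Betti numbers vanish outside a finite set of closed points and in degrees `> g`, and `Y`
is proper over a field, then `H^n(X, F) = 0` for `n ≠ g`.
-/

set_option autoImplicit false

universe u

open AlgebraicGeometry CategoryTheory CategoryTheory.Limits RingTheory.Sequence

namespace K524.FinSupp

/-- A weakly regular sequence of length `g` in the maximal ideal of a local ring. -/
def HasReg (R : Type*) [CommRing R] [IsLocalRing R] (g : ℕ) : Prop :=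
  ∃ rs : List R, rs.length = g ∧ (∀ r ∈ rs, r ∈ IsLocalRing.maximalIdeal R) ∧ IsWeaklyRegular R rs

theorem HasReg.of_equiv {R S : Type*} [CommRing R] [IsLocalRing R] [CommRing S] [IsLocalRing S] (e : R ≃+* S) {g : ℕ}
    (h : HasReg R g) : HasReg S g := by
  obtain ⟨rs, hrs, hm, hw⟩ := h
  refine ⟨rs.map e, by rw [List.length_map, hrs], fun r hr => ?_, ?_⟩
  · obtain ⟨a, ha, rfl⟩ := List.mem_map.mp hr
    have h1 := hm a ha
    rw [IsLocalRing.mem_maximalIdeal, mem_nonunits_iff] at h1 ⊢
    intro h2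
    exact h1 ((MulEquiv.isUnit_map e).mp h2)
  · refine (AddEquiv.isWeaklyRegular_congr (e := e.toAddEquiv) (M := R) (M₂ := S) (as := rs) (bs := rs.map e) ?_).mp hw
    rw [List.forall₂_map_right_iff]
    exact List.forall₂_same.mpr fun r _ x => by
      change e (r * x) = e r * e x
      rw [map_mul]

theorem HasReg.mono {R : Type*} [CommRing R] [IsLocalRing R] {g g' : ℕ} (h : HasReg R g) (hg : g' ≤ g) :
    HasReg R g' := by
  obtain ⟨rs, hrs, hm, hw⟩ := h
  refine ⟨rs.take g', by rw [List.length_take, hrs]; omega, fun r hr => hm r (List.mem_of_mem_take hr), ?_⟩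
  have h2 : IsWeaklyRegular R (rs.take g' ++ rs.drop g') := by
    rw [List.take_append_drop]; exact hw
  exact ((isWeaklyRegular_append_iff _ _ _).mp h2).1

theorem subsingleton_H_of_iso {T : TopCat.{u}} {F G : CohTop.Ab T} (e : F ≅ G) (n : ℕ) (h : Subsingleton (CohTop.H F n)) :
    Subsingleton (CohTop.H G n) := by
  refine ⟨fun a b => ?_⟩
  have key : ∀ c : CohTop.H G n, c = 0 := by
    intro c
    have h1 : (Abelian.Ext.comp c (Abelian.Ext.mk₀ e.inv) (add_zero n)) = 0 :=
      @Subsingleton.elim (CohTop.H F n) h _ _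
    have h2 : Abelian.Ext.comp (Abelian.Ext.comp c (Abelian.Ext.mk₀ e.inv) (add_zero n)) (Abelian.Ext.mk₀ e.hom)
        (add_zero n) = c := by
      rw [Abelian.Ext.comp_assoc_of_third_deg_zero, Abelian.Ext.mk₀_comp_mk₀, e.inv_hom_id, Abelian.Ext.comp_mk₀_id]
    rw [← h2, h1, Abelian.Ext.zero_comp]
  rw [key a, key b]

variable {X Y : Scheme.{u}} (f : X ⟶ Y) [IsProper f] [IsLocallyNoetherian Y]
  (F : X.Modules) (hF : Coh.IsCoh F) (hfl : FlatMod.IsFlatOver f F)

omit [IsLocallyNoetherian Y] in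
theorem exists_point {V : Y.Opens} (hV : IsAffineOpen V) (x : PrimeSpectrum Γ(Y, V)) :
    ∃ y : V, hV.primeIdealOf y = x := by
  exact ⟨hV.isoSpec.inv x, (Scheme.homeoOfIso hV.isoSpec).apply_symm_apply x⟩

include hF hfl

/-- If the Betti numbers in degree `p` vanish on the affine open `V`, then `Γ(V, R^p f_* F) = 0`. -/
theorem subsingleton_sections_of_fiberRank [HasInjectiveResolutions X.Modules] (V : Y.Opens) (hV : IsAffineOpen V) (p : ℕ)
    (h : ∀ y ∈ V, CohIII.fiberRank f F p y = 0) : Subsingleton Γ((Coh.Rpush f p).obj F, V) := by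
  obtain ⟨P, hP, -, hP2, hP3⟩ := Groth.Agent.Ega3B.Package.package f F hF hfl V hV
  obtain ⟨e⟩ := hP2 p
  have h1 : ∀ x : PrimeSpectrum Γ(Y, V),
      Subsingleton (LocalizedModule x.asIdeal.primeCompl (P.homology (-(p : ℤ)))) := fun x => by
    obtain ⟨y, rfl⟩ := exists_point hV x
    exact Groth.Agent.Ega3B.VanishFibre.subsingleton_localized_homology P (-(p : ℤ)) (-(p : ℤ) - 1)
      (by simp [ComplexShape.down]) (hP _).1 (hP _).1 (hP _).2 _
      (by rw [← (hP3 y p).2]; exact h y.1 y.2)
  have h2 : Subsingleton (P.homology (-(p : ℤ))) := by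
    rw [← Module.support_eq_empty_iff (R := Γ(Y, V)), Set.eq_empty_iff_forall_notMem]
    intro x hx
    rw [Module.mem_support_iff] at hx
    exact not_subsingleton _ (h1 x)
  exact e.toEquiv.subsingleton

/-- If the Betti numbers in degree `p` vanish, then `R^p f_* F = 0`. -/
theorem isZero_Rpush_of_fiberRank [HasInjectiveResolutions X.Modules] (p : ℕ)
    (h : ∀ y, CohIII.fiberRank f F p y = 0) : IsZero ((Coh.Rpush f p).obj F) := by
  rw [Groth.Agent.Ega3B.RpushAff.isZero_iff f F hF.1 p]
  intro V hV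
  rw [← Groth.Agent.Ega3B.RpushAff.subsingleton_iff f F hF.1 hV p]
  exact subsingleton_sections_of_fiberRank f F hF hfl V hV p fun y _ => h y

theorem isZero_Rpush [HasInjectiveResolutions X.Modules] (g : ℕ)
    (h : ∀ y : Y, (∃ p : ℕ, p < g ∧ CohIII.fiberRank f F p y ≠ 0) → HasReg (Y.presheaf.stalk y) g)
    (p : ℕ) (hp : p < g) : IsZero ((Coh.Rpush f p).obj F) := by
  rw [Groth.Agent.Ega3B.RpushAff.isZero_iff f F hF.1 p]
  intro V hV
  rw [← Groth.Agent.Ega3B.RpushAff.subsingleton_iff f F hF.1 hV p]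
  obtain ⟨P, hP, ⟨b, hb⟩, hP2, hP3⟩ := Groth.Agent.Ega3B.Package.package f F hF hfl V hV
  obtain ⟨e⟩ := hP2 p
  have : IsNoetherianRing Γ(Y, V) := IsLocallyNoetherian.component_noetherian ⟨V, hV⟩
  have h2 : Subsingleton (P.homology (-(p : ℤ))) := by
    refine AcycCx.subsingleton_homology P (fun i => (hP i).1) (fun i => (hP i).2) (fun i hi => hb i (Or.inr hi)) g
      (fun x hx => ?_) p hp
    obtain ⟨y, rfl⟩ := exists_point hV x
    obtain ⟨q, hq, hq2⟩ := hx
    rw [← (hP3 y q).2] at hq2
    have h3 := h y.1 ⟨q, hq, hq2⟩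
    have := hV.isLocalization_stalk y
    exact h3.of_equiv (IsLocalization.algEquiv (hV.primeIdealOf y).asIdeal.primeCompl (Y.presheaf.stalk y.1)
      (Localization.AtPrime (hV.primeIdealOf y).asIdeal)).toRingEquiv
  exact e.toEquiv.subsingleton

/-- The stalk of `R^p f_* F` vanishes outside a closed set outside which the Betti numbers vanish. -/
theorem support_subset [HasInjectiveResolutions X.Modules] (p : ℕ) (Z : Set Y) (hZ : IsClosed Z)
    (h : ∀ y, CohIII.fiberRank f F p y ≠ 0 → y ∈ Z) : CohB1.support ((Coh.Rpush f p).obj F) ⊆ Z := by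
  intro y hy
  by_contra hyZ
  apply hy
  refine ⟨fun a b => ?_⟩
  have key : ∀ c : ((Coh.Rpush f p).obj F).presheaf.stalk y, c = 0 := by
    intro c
    obtain ⟨U, hyU, s, rfl⟩ := TopCat.Presheaf.exists_germ_eq ((Coh.Rpush f p).obj F).presheaf c
    let W : Y.Opens := U ⊓ ⟨Zᶜ, hZ.isOpen_compl⟩
    obtain ⟨V, hV, hyV, hVW⟩ := exists_isAffineOpen_mem_and_subset (x := y) (U := W) ⟨hyU, hyZ⟩
    have h1 := subsingleton_sections_of_fiberRank f F hF hfl V hV p fun y' hy' => by
      by_contra hne
      exact (hVW hy').2 (h y' hne)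
    have h2 : V ≤ U := fun a ha => (hVW ha).1
    rw [← TopCat.Presheaf.germ_res_apply ((Coh.Rpush f p).obj F).presheaf (homOfLE h2) y hyV s]
    have h3 : ((Coh.Rpush f p).obj F).presheaf.map (homOfLE h2).op s = 0 :=
      @Subsingleton.elim Γ((Coh.Rpush f p).obj F, V) h1 _ _
    rw [h3, map_zero]
  rw [key a, key b]

omit [IsLocallyNoetherian Y] hF hfl in
theorem krullDim_le_zero {Z W : Set Y} (hZ : Z.Finite) (hcl : ∀ z ∈ Z, IsClosed ({z} : Set Y)) (hW : W ⊆ Z) :
    topologicalKrullDim W ≤ 0 := by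
  have hfin : Finite W := (hZ.subset hW).to_subtype
  have h1 : T1Space W := ⟨fun w => by
    have : ({w} : Set W) = Subtype.val ⁻¹' ({w.1} : Set Y) := by
      ext a
      simp [Subtype.ext_iff]
    rw [this]
    exact (hcl w.1 (hW w.2)).preimage continuous_subtype_val⟩
  have h2 : DiscreteTopology W := inferInstance
  rcases isEmpty_or_nonempty W with h3 | h3
  · have : IsEmpty (TopologicalSpace.IrreducibleCloseds W) := ⟨fun Z => by
      obtain ⟨w, -⟩ := Z.isIrreducible.nonempty
      exact isEmptyElim w⟩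
    rw [topologicalKrullDim, Order.krullDim_eq_bot]
    exact bot_le
  · exact topologicalKrullDim_zero_of_discreteTopology W

/-- `X ⟶ Y` proper, `Y` proper over a field, `F` coherent on `X`, flat over `Y`, the Betti numbers of `F` vanishing outside
a finite set of closed points with regular local rings of dimension `g`, and in degrees `> g`.  Then `H^n(X, F) = 0` for
`n ≠ g`. -/
theorem subsingleton_HH {k : Type u} [Field k] [Y.Over (Spec (CommRingCat.of k))]
    [IsProper (Y ↘ (Spec (CommRingCat.of k)))] (g : ℕ) (Z : Set Y) (hZfin : Z.Finite)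
    (hZcl : ∀ z ∈ Z, IsClosed ({z} : Set Y)) (hZ : ∀ y p, CohIII.fiberRank f F p y ≠ 0 → y ∈ Z)
    (hreg : ∀ z ∈ Z, HasReg (Y.presheaf.stalk z) g) (hg : ∀ y p, g < p → CohIII.fiberRank f F p y = 0)
    (n : ℕ) (hn : n ≠ g) : Subsingleton (Coh.HH X F n) := by
  have := Groth.Agent.Dcoh.DerSch.hasInjectiveResolutions X
  have hZclosed : IsClosed Z := by
    rw [← Set.biUnion_of_singleton Z]
    exact hZfin.isClosed_biUnion hZcl
  have hcoh : ∀ q, Coh.IsCoh ((Coh.Rpush f q).obj F) := fun q => Groth.Agent.S0036.result f F hF q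
  have h1 : ∀ p q : ℕ, Subsingleton (CohTop.H ((CohTop.Rpush f.base q).obj (Coh.toAb F)) (p + 1)) := by
    intro p q
    obtain ⟨e⟩ := Groth.Agent.Ega3B.RpushAbCmp.nonempty_toAb_Rpush_iso f F q
    have h2 := Groth.Agent.S1526.result k Y ((Coh.Rpush f q).obj F) (hcoh q)
      (krullDim_le_zero hZfin hZcl (support_subset f F hF hfl q Z hZclosed fun y hy => hZ y q hy)) (p + 1) (by omega)
    exact subsingleton_H_of_iso e (p + 1) h2
  obtain ⟨e⟩ := Groth.Agent.S0494.result f.base (Coh.toAb F) h1 n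
  have h3 : IsZero ((Coh.Rpush f n).obj F) := by
    rcases lt_or_gt_of_ne hn with h4 | h4
    · exact isZero_Rpush f F hF hfl g (fun y hy => by
        obtain ⟨p, -, hp⟩ := hy
        exact hreg y (hZ y p hp)) n h4
    · exact isZero_Rpush_of_fiberRank f F hF hfl n fun y => hg y n h4
  rw [← Groth.Agent.Ega3B.RpushAbCmp.isZero_RpushAb_iff] at h3
  have h5 : Subsingleton (((Coh.RpushAb f n).obj (Coh.toAb F)).obj.obj (Opposite.op ⊤)) := by
    have h6 : IsZero (((Coh.RpushAb f n).obj (Coh.toAb F)).obj.obj (Opposite.op ⊤)) :=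
      (((sheafToPresheaf _ _).map_isZero h3).obj _)
    exact AddCommGrpCat.subsingleton_of_isZero h6
  exact e.toEquiv.subsingleton

end K524.FinSupp
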