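import Groth.Agent.S2443
import Groth.Agent.Grpsch.PicGrp
import Groth.Agent.Grpsch.CubeClosed
import Groth.Agent.Flat2H.ThickFibre
import Groth.Agent.Flat2D.LocalGlobalH
import Groth.Agent.S2329
import Mathlib.CategoryTheory.Monoidal.Cartesian.Over
import Mathlib.RingTheory.Flat.FaithfullyFlat.Basic

/-!
# Vanishing of the cohomology of classes of invertible modules, and the Künneth formula

`Van c n`: `H^n(X, c) = 0`.  `van_box_iff`: over a field, `H^n(X × Y, c ⊠ d) = 0` iff for all `a + b = n`, `H^a(X, c) = 0`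
or `H^b(Y, d) = 0`.
-/

set_option autoImplicit false
universe u

open CategoryTheory CategoryTheory.Limits MonoidalCategory CartesianMonoidalCategory AlgebraicGeometry
open Groth.Agent Groth.Agent.Grpsch.PicGrp

namespace K524.Kun

/-- `H^n(X, c) = 0` for a class `c` of invertible modules. -/
def Van {X : Scheme.{u}} (c : Pic X) (n : ℕ) : Prop :=
  ∀ (L : X.Modules) (hL : PicF.IsInvertible L), c = mk L hL → Subsingleton (Coh.HH X L n)

theorem van_mk {X : Scheme.{u}} {L : X.Modules} (hL : PicF.IsInvertible L) (n : ℕ) :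
    Van (mk L hL) n ↔ Subsingleton (Coh.HH X L n) := by
  refine ⟨fun h => h L hL rfl, fun h M hM e => ?_⟩
  obtain ⟨i⟩ := (mk_eq_iff hL hM).1 e
  exact Flat2D.LocalGlobalH.subsingleton_HH_of_iso i n h

theorem isQCoh_of_isInvertible {X : Scheme.{u}} {L : X.Modules} (hL : PicF.IsInvertible L) : Coh.IsQCoh L :=
  (Groth.Agent.S2329.isCoh_of_isInvertible hL).1

theorem van_pull_iso {X Y : Scheme.{u}} (e : X ⟶ Y) [IsIso e] (c : Pic Y) (n : ℕ) :
    Van (pull e c) n ↔ Van c n := by
  obtain ⟨L, hL, rfl⟩ := exists_mk c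
  rw [pull_mk, van_mk, van_mk]
  exact Flat2H.ThickFibre.subsingleton_HH_pullback_iff e L (isQCoh_of_isInvertible hL) n

section Alg

variable {k : Type u} [Field k]

theorem subsingleton_tensor_iff {V W : Type u} [AddCommGroup V] [AddCommGroup W] [Module k V] [Module k W] :
    Subsingleton (TensorProduct k V W) ↔ Subsingleton V ∨ Subsingleton W := by
  constructor
  · intro h
    by_contra hc
    rw [not_or, not_subsingleton_iff_nontrivial, not_subsingleton_iff_nontrivial] at hc
    obtain ⟨h1, h2⟩ := hc
    have : Nontrivial (TensorProduct k V W) := Module.FaithfullyFlat.lTensor_nontrivial k V W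
    exact not_subsingleton _ h
  · rintro (h | h)
    · refine ⟨fun a b => ?_⟩
      have key : ∀ c : TensorProduct k V W, c = 0 := by
        intro c
        induction c using TensorProduct.induction_on with
        | zero => rfl
        | tmul x y => rw [Subsingleton.elim x 0, TensorProduct.zero_tmul]
        | add x y hx hy => rw [hx, hy, add_zero]
      rw [key a, key b]
    · refine ⟨fun a b => ?_⟩
      have key : ∀ c : TensorProduct k V W, c = 0 := by
        intro c
        induction c using TensorProduct.induction_on with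
        | zero => rfl
        | tmul x y => rw [Subsingleton.elim y 0, TensorProduct.tmul_zero]
        | add x y hx hy => rw [hx, hy, add_zero]
      rw [key a, key b]

theorem subsingleton_directSum_iff {ι : Type*} [DecidableEq ι] (V : ι → Type u) [∀ i, AddCommGroup (V i)] :
    Subsingleton (DirectSum ι V) ↔ ∀ i, Subsingleton (V i) := by
  constructor
  · intro h i
    refine ⟨fun a b => ?_⟩
    exact DirectSum.of_injective (β := V) i (Subsingleton.elim _ _)
  · intro h
    refine ⟨fun a b => DFinsupp.ext fun i => Subsingleton.elim _ _⟩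

end Alg

variable {k : Type u} [Field k]

theorem subsingleton_box_iff (X Y : Over (Spec (CommRingCat.of k))) [QuasiCompact X.hom] [IsSeparated X.hom]
    [QuasiCompact Y.hom] [IsSeparated Y.hom] (F : X.left.Modules) (hF : Coh.IsQCoh F) (G : Y.left.Modules)
    (hG : Coh.IsQCoh G) (hfl : FlatMod.IsFlatOver X.hom F) (n : ℕ) :
    Subsingleton (Coh.HH (X ⊗ Y).left (CohB1.tensorMod ((Scheme.Modules.pullback (fst X Y).left).obj F)
      ((Scheme.Modules.pullback (snd X Y).left).obj G)) n) ↔
      ∀ a b, a + b = n → Subsingleton (Coh.HH X.left F a) ∨ Subsingleton (Coh.HH Y.left G b) := by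
  let _ : X.left.Over (Spec (CommRingCat.of k)) := ⟨X.hom⟩
  let _ : Y.left.Over (Spec (CommRingCat.of k)) := ⟨Y.hom⟩
  have h1 : QuasiCompact (X.left ↘ Spec (CommRingCat.of k)) := ‹QuasiCompact X.hom›
  have h2 : IsSeparated (X.left ↘ Spec (CommRingCat.of k)) := ‹IsSeparated X.hom›
  have h3 : QuasiCompact (Y.left ↘ Spec (CommRingCat.of k)) := ‹QuasiCompact Y.hom›
  have h4 : IsSeparated (Y.left ↘ Spec (CommRingCat.of k)) := ‹IsSeparated Y.hom›
  obtain ⟨e⟩ := Groth.Agent.S2443.result k X.left Y.left F G hfl (fun p => inferInstance) n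
  have h5 : Subsingleton (Coh.HH (X ⊗ Y).left (CohB1.tensorMod ((Scheme.Modules.pullback (fst X Y).left).obj F)
      ((Scheme.Modules.pullback (snd X Y).left).obj G)) n) ↔ Subsingleton
        (DirectSum (Finset.antidiagonal n) fun pq => TensorProduct k (Coh.HH X.left F pq.1.1) (Coh.HH Y.left G pq.1.2)) :=
    e.toEquiv.subsingleton_congr
  rw [h5, subsingleton_directSum_iff]
  constructor
  · intro h a b hab
    have := h ⟨(a, b), Finset.mem_antidiagonal.mpr hab⟩
    exact subsingleton_tensor_iff.mp this
  · rintro h ⟨⟨a, b⟩, hab⟩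
    exact subsingleton_tensor_iff.mpr (h a b (Finset.mem_antidiagonal.mp hab))

/-- Künneth: `H^n(X × Y, c ⊠ d) = 0` iff `H^a(X, c) = 0` or `H^b(Y, d) = 0` for all `a + b = n`. -/
theorem van_box_iff (X Y : Over (Spec (CommRingCat.of k))) [QuasiCompact X.hom] [IsSeparated X.hom]
    [QuasiCompact Y.hom] [IsSeparated Y.hom] (c : Pic X.left) (d : Pic Y.left) (n : ℕ) :
    Van (pull (fst X Y).left c * pull (snd X Y).left d) n ↔ ∀ a b, a + b = n → Van c a ∨ Van d b := by
  obtain ⟨L, hL, rfl⟩ := exists_mk c
  obtain ⟨M, hM, rfl⟩ := exists_mk d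
  rw [pull_mk, pull_mk, mk_mul_mk, van_mk]
  simp only [van_mk]
  have : Flat X.hom := inferInstance
  exact subsingleton_box_iff X Y L (isQCoh_of_isInvertible hL) M (isQCoh_of_isInvertible hM)
    (Grpsch.CubeClosed.isFlatOver_of_isInvertible X.hom hL) n

end K524.Kun
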