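import Groth.Agent.AbVar.K524.Chi
import Groth.Agent.Etcore.DimBaseChange
import Groth.Agent.S0002

/-!
# The index over an arbitrary field, by base change

`HasIdx c i` is invariant under extension of the base field; `chi_ne_zero`: a class with an index has nonzero Euler
characteristic; `nd_of_hasIdx`: over an algebraically closed field such a class is nondegenerate.
-/

set_option autoImplicit false
universe u

open CategoryTheory CategoryTheory.Limits MonoidalCategory CartesianMonoidalCategory AlgebraicGeometry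
open scoped MonObj
open Groth.Agent Groth.Agent.Grpsch.PicGrp Groth.Agent.Grpsch.Cube K524.Kun K524.PicZeroVan K512.Slice K524.Index
open K524.Chi
open K506.Transl (tr phi Inv)

attribute [local instance] Functor.grpObjObj

namespace K524.Bc

variable {k : Type u} [Field k]

theorem finite_HH {X : Over (Spec (CommRingCat.of k))} [IsProper X.hom] {L : X.left.Modules} (hL : PicF.IsInvertible L)
    (n : ℕ) : @Module.Finite k (Coh.HH X.left L n) _ _ (@Coh.moduleOver k _ X.left ⟨X.hom⟩ L n) := by
  let _ : X.left.Over (Spec (CommRingCat.of k)) := ⟨X.hom⟩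
  have hp : IsProper (X.left ↘ (Spec (CommRingCat.of k))) := ‹IsProper X.hom›
  exact Groth.Agent.S0002.result k X.left L (Groth.Agent.S2329.isCoh_of_isInvertible hL) n

/-- The Euler characteristic of a class with an index. -/
theorem chi_eq {X : Over (Spec (CommRingCat.of k))} [IsProper X.hom] {L : X.left.Modules} (hL : PicF.IsInvertible L)
    {i : ℕ} (h : HasIdx (mk L hL) i) :
    chi (mk L hL) = (-1) ^ i * (@Module.finrank k (Coh.HH X.left L i) _ _ (@Coh.moduleOver k _ X.left ⟨X.hom⟩ L i) : ℤ) := by
  rw [chi_mk]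
  let _ : X.left.Over (Spec (CommRingCat.of k)) := ⟨X.hom⟩
  unfold Curv2.euler
  rw [finsum_eq_single _ i]
  intro j hj
  have := (van_mk hL j).mp (h.1 j hj)
  rw [Module.finrank_zero_of_subsingleton]
  simp

theorem chi_ne_zero {X : Over (Spec (CommRingCat.of k))} [IsProper X.hom] {c : Pic X.left} {i : ℕ} (h : HasIdx c i) :
    chi c ≠ 0 := by
  obtain ⟨L, hL, rfl⟩ := exists_mk c
  rw [chi_eq hL h]
  let _ : X.left.Over (Spec (CommRingCat.of k)) := ⟨X.hom⟩
  have h1 := finite_HH (X := X) hL i
  have h2 : Nontrivial (Coh.HH X.left L i) := ((hasIdx_mk hL i).mp h).2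
  have h3 : 0 < Module.finrank k (Coh.HH X.left L i) := Module.finrank_pos
  refine mul_ne_zero (pow_ne_zero _ (by norm_num)) ?_
  exact_mod_cast h3.ne'

theorem nd_of_hasIdx [IsAlgClosed k] {X : Over (Spec (CommRingCat.of k))} [GrpObj X] [IsProper X.hom]
    [GeometricallyIntegral X.hom] {c : Pic X.left} {i : ℕ} (h : HasIdx c i) : ND c :=
  nd_of_chi (chi_ne_zero h)

variable (K : Type u) [Field K] [Algebra k K]

/-- The morphism `Spec K ⟶ Spec k`. -/
noncomputable abbrev t (k : Type u) [Field k] (K : Type u) [Field K] [Algebra k K] :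
    Spec (CommRingCat.of K) ⟶ Spec (CommRingCat.of k) := Spec.map (CommRingCat.ofHom (algebraMap k K))

/-- Base change to `K`. -/
noncomputable abbrev bc (X : Over (Spec (CommRingCat.of k))) : Over (Spec (CommRingCat.of K)) := (Over.pullback (t k K)).obj X

/-- The projection `X_K ⟶ X`. -/
noncomputable abbrev pr (X : Over (Spec (CommRingCat.of k))) : (bc K X).left ⟶ X.left := pullback.fst X.hom (t k K)

theorem isPullback_pr (X : Over (Spec (CommRingCat.of k))) : IsPullback (pr K X) (bc K X).hom X.hom (t k K) :=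
  IsPullback.of_hasPullback X.hom (t k K)

theorem van_bc_iff {X : Over (Spec (CommRingCat.of k))} [IsProper X.hom] (c : Pic X.left) (n : ℕ) :
    Van (pull (pr K X) c) n ↔ Van c n := by
  obtain ⟨L, hL, rfl⟩ := exists_mk c
  rw [pull_mk, van_mk, van_mk]
  let _ : X.left.Over (Spec (CommRingCat.of k)) := ⟨X.hom⟩
  let _ : (bc K X).left.Over (Spec (CommRingCat.of K)) := ⟨(bc K X).hom⟩
  have h1 : QuasiCompact (X.left ↘ Spec (CommRingCat.of k)) := inferInstanceAs (QuasiCompact X.hom)
  have h2 : QuasiSeparated (X.left ↘ Spec (CommRingCat.of k)) := inferInstanceAs (QuasiSeparated X.hom)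
  exact Num.subsingleton_baseChange_iff k X.left K (bc K X).left (pr K X) (isPullback_pr K X) L
    (isQCoh_of_isInvertible hL) n

theorem hasIdx_bc_iff {X : Over (Spec (CommRingCat.of k))} [IsProper X.hom] (c : Pic X.left) (i : ℕ) :
    HasIdx (pull (pr K X) c) i ↔ HasIdx c i := by
  unfold HasIdx
  simp only [van_bc_iff]

theorem chi_bc {X : Over (Spec (CommRingCat.of k))} [IsProper X.hom] (c : Pic X.left) :
    chi (X := bc K X) (pull (pr K X) c) = chi c := by
  obtain ⟨L, hL, rfl⟩ := exists_mk c
  rw [pull_mk, chi_mk, chi_mk]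
  let _ : X.left.Over (Spec (CommRingCat.of k)) := ⟨X.hom⟩
  let _ : (bc K X).left.Over (Spec (CommRingCat.of K)) := ⟨(bc K X).hom⟩
  have h1 : QuasiCompact (X.left ↘ Spec (CommRingCat.of k)) := inferInstanceAs (QuasiCompact X.hom)
  have h2 : QuasiSeparated (X.left ↘ Spec (CommRingCat.of k)) := inferInstanceAs (QuasiSeparated X.hom)
  exact Num.euler_baseChange k X.left K (bc K X).left (pr K X) (isPullback_pr K X) L (isQCoh_of_isInvertible hL)

theorem dim_bc (X : Over (Spec (CommRingCat.of k))) [LocallyOfFiniteType X.hom] :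
    topologicalKrullDim (bc K X).left = topologicalKrullDim X.left :=
  Etcore.DimBaseChange.topologicalKrullDim_eq (Field.toIsField k) (Field.toIsField K) X.hom (bc K X).hom (pr K X)
    (t k K) (isPullback_pr K X)

instance proper_bc (X : Over (Spec (CommRingCat.of k))) [IsProper X.hom] : IsProper (bc K X).hom :=
  MorphismProperty.of_isPullback (isPullback_pr K X) ‹IsProper X.hom›

instance geomInt_bc (X : Over (Spec (CommRingCat.of k))) [GeometricallyIntegral X.hom] :
    GeometricallyIntegral (bc K X).hom := by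
  change GeometricallyIntegral (pullback.snd X.hom (t k K))
  infer_instance

/-- Base change of morphisms. -/
theorem map_pr {X Y : Over (Spec (CommRingCat.of k))} (f : X ⟶ Y) :
    ((Over.pullback (t k K)).map f).left ≫ pr K Y = pr K X ≫ f.left :=
  pullback.lift_fst _ _ _

theorem pl_map {X Y : Over (Spec (CommRingCat.of k))} (f : X ⟶ Y) (c : Pic Y.left) :
    pl ((Over.pullback (t k K)).map f) (pull (pr K Y) c) = pull (pr K X) (pl f c) := by
  unfold pl
  rw [← pull_comp, map_pr, pull_comp]

end K524.Bc
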