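import Groth.Agent.AbVar.K524.Jump
import Groth.Agent.VarietyB.DimSch
import Groth.Agent.EtpbcA.CdFinDim

/-!
# Local constancy of the index: products over a field

`isLocallyConstant`: the version for a class on `X × T`, `X` proper over a field, `T` any scheme over the field.
-/

set_option autoImplicit false
universe u

open CategoryTheory CategoryTheory.Limits MonoidalCategory CartesianMonoidalCategory AlgebraicGeometry
open scoped MonObj
open Groth.Agent Groth.Agent.Grpsch.PicGrp Groth.Agent.Grpsch.Cube K524.Kun K524.PicZeroVan K512.Slice K524.Index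

namespace K524.JumpAV

variable {k : Type u} [Field k]

theorem exists_dim (X : Over (Spec (CommRingCat.of k))) [LocallyOfFiniteType X.hom] [IsIntegral X.left] :
    ∃ g : ℕ, topologicalKrullDim X.left = g := by
  let _ : X.left.Over (Spec (CommRingCat.of k)) := ⟨X.hom⟩
  have : LocallyOfFiniteType (X.left ↘ Spec (CommRingCat.of k)) := inferInstanceAs (LocallyOfFiniteType X.hom)
  exact ⟨_, Groth.Agent.VarietyB.DimSch.topologicalKrullDim_eq_trd k⟩

theorem isPullback_fiber (X T : Over (Spec (CommRingCat.of k))) (t : T.left) :
    IsPullback ((snd X T).left.fiberι t ≫ (fst X T).left) ((snd X T).left.fiberToSpecResidueField t) X.hom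
      (T.left.fromSpecResidueField t ≫ T.hom) := by
  have h1 : IsPullback (fst X T).left (snd X T).left X.hom T.hom := IsPullback.of_hasPullback X.hom T.hom
  have h2 : IsPullback ((snd X T).left.fiberι t) ((snd X T).left.fiberToSpecResidueField t) (snd X T).left
      (T.left.fromSpecResidueField t) := IsPullback.of_hasPullback _ _
  exact h2.paste_horiz h1

theorem subsingleton_fiberH (X T : Over (Spec (CommRingCat.of k))) [IsProper X.hom] {F : (X ⊗ T).left.Modules}
    (hF : PicF.IsInvertible F) (g : ℕ) (hg : topologicalKrullDim X.left ≤ g) (t : T.left) (j : ℕ) (hj : g < j) :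
    Subsingleton (PerfAux.fiberH (snd X T).left F t j) := by
  have h1 := isPullback_fiber X T t
  have h2 : IsProper ((snd X T).left.fiberToSpecResidueField t) := MorphismProperty.of_isPullback h1 ‹IsProper X.hom›
  have h3 : topologicalKrullDim ((snd X T).left.fiber t) = topologicalKrullDim X.left :=
    Etcore.DimBaseChange.topologicalKrullDim_eq (Field.toIsField k) (Field.toIsField (T.left.residueField t)) X.hom
      ((snd X T).left.fiberToSpecResidueField t) _ _ h1
  have h4 := Key.van_of_dim (K := T.left.residueField t) ((snd X T).left.fiberToSpecResidueField t)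
    (h3.trans_le hg) (mk _ (Fdesc.LocGen.isInvertible_pullback ((snd X T).left.fiberι t) hF)) j hj
  rw [van_mk] at h4
  exact h4

theorem isLocallyConstant (X T : Over (Spec (CommRingCat.of k))) [IsProper X.hom] [IsIntegral X.left]
    {F : (X ⊗ T).left.Modules} (hF : PicF.IsInvertible F) (idx : T.left → ℕ)
    (h : ∀ s, (∀ j, j ≠ idx s → Subsingleton (PerfAux.fiberH (snd X T).left F s j)) ∧
      Nontrivial (PerfAux.fiberH (snd X T).left F s (idx s))) : IsLocallyConstant idx := by
  obtain ⟨g, hg⟩ := exists_dim X
  have i1 : IsProper (snd X T).left := isProper_snd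
  have i2 : Flat (snd X T).left := flat_snd
  have i3 : LocallyOfFinitePresentation (snd X T).left := by rw [Over.snd_left]; infer_instance
  exact Jump.isLocallyConstant (snd X T).left hF g (fun s j hj => subsingleton_fiberH X T hF g hg.le s j hj) idx h

end K524.JumpAV
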