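import Mathlib.Algebra.Module.Basic
import Mathlib.Tactic.Module
import Mathlib.Tactic.LinearCombination

/-!
# The four square identity for a quadratic map

`quat`: `q` a map from a commutative group to an additive group with `q (f g) = q f + q g + B f g`, `B` biadditive,
`q (f ^ n) = n² q f + n(n-1)/2 δ(f)`; the sum of the values of `q` at the rows of the quaternion matrix `(a, b, c, d)` is
`(a² + b² + c² + d²) Σ q` up to a combination of the `δ`.
-/

set_option autoImplicit false

namespace K524.QuatAlg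

section
variable {G V : Type*} [CommGroup G] [AddCommGroup V] (q : G → V) (B : G → G → V) (dl : G → V)
  (hmul : ∀ f g, q (f * g) = q f + q g + B f g)
  (hBl : ∀ f g h, B (f * g) h = B f h + B g h)
  (hBz : ∀ f g (n m : ℤ), B (f ^ n) (g ^ m) = (n * m) • B f g)
  (hz : ∀ f (n s : ℤ), 2 * s = n * n - n → q (f ^ n) = (n * n) • q f + s • dl f)

include hmul hBl hBz hz in
theorem four (x y z w : G) (a b c d sa sb sc sd : ℤ) (ha : 2 * sa = a * a - a) (hb : 2 * sb = b * b - b)
    (hc : 2 * sc = c * c - c) (hd : 2 * sd = d * d - d) :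
    q (x ^ a * y ^ b * z ^ c * w ^ d) = (a * a) • q x + (b * b) • q y + (c * c) • q z + (d * d) • q w +
      (a * b) • B x y + (a * c) • B x z + (b * c) • B y z + (a * d) • B x w + (b * d) • B y w + (c * d) • B z w +
      (sa • dl x + sb • dl y + sc • dl z + sd • dl w) := by
  rw [hmul, hmul, hmul, hBl, hBl, hBl, hBz, hBz, hBz, hBz, hBz, hBz, hz x a sa ha, hz y b sb hb, hz z c sc hc,
    hz w d sd hd]
  module

include hmul hBl hBz hz in
theorem quat (x y z w : G) (a b c d sa sb sc sd tb tc td : ℤ) (ha : 2 * sa = a * a - a) (hb : 2 * sb = b * b - b)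
    (hc : 2 * sc = c * c - c) (hd : 2 * sd = d * d - d)
    (hb' : 2 * tb = -b * -b - -b) (hc' : 2 * tc = -c * -c - -c) (hd' : 2 * td = -d * -d - -d) :
    q (x ^ a * y ^ b * z ^ c * w ^ d) + q (x ^ (-b) * y ^ a * z ^ (-d) * w ^ c) +
      (q (x ^ (-c) * y ^ d * z ^ a * w ^ (-b)) + q (x ^ (-d) * y ^ (-c) * z ^ b * w ^ a)) =
    (a * a + b * b + c * c + d * d) • (q x + q y + (q z + q w)) +
      ((sa + tb + tc + td) • dl x + (sb + sa + sd + tc) • dl y + (sc + td + sa + sb) • dl z +
        (sd + sc + tb + sa) • dl w) := by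
  rw [four q B dl hmul hBl hBz hz x y z w a b c d sa sb sc sd ha hb hc hd,
    four q B dl hmul hBl hBz hz x y z w (-b) a (-d) c tb sa td sc hb' ha hd' hc,
    four q B dl hmul hBl hBz hz x y z w (-c) d a (-b) tc sd sa tb hc' hd ha hb',
    four q B dl hmul hBl hBz hz x y z w (-d) (-c) b a td tc sb sa hd' hc' hb ha]
  module

end
end K524.QuatAlg
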