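import Groth.Agent.AbVar.K518.Phi
import Groth.Agent.AbVar.K524.Bc
import Groth.Agent.AbVar.K524.JumpAV
import Groth.Agent.AbVar.K524.QuatAlg
import Groth.Agent.Grpsch.CubePush
import Mathlib.NumberTheory.SumFourSquares

/-!
# Quadraticity of `f ↦ f^*c` and the index of tensor powers

* `pl_zpow`: `(f^n)^* c = (f^*c)^n D(f,f)^{n(n-1)/2}`; `del c = [-1]^*c c⁻¹` is translation invariant.
* `box4`, `quat`: the class `c ⊠ c ⊠ c ⊠ c` on `X⁴` and the endomorphism of `X⁴` attached to four integers.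
* `HasIdx.pow` (`k` algebraically closed): the index of `c ^ m` is the index of `c`, `m > 0`.
-/

set_option autoImplicit false
universe u

open CategoryTheory CategoryTheory.Limits MonoidalCategory CartesianMonoidalCategory AlgebraicGeometry
open scoped MonObj
open Groth.Agent Groth.Agent.Grpsch.PicGrp Groth.Agent.Grpsch.Cube K524.Kun K524.PicZeroVan K512.Slice K524.Index
open K506.Transl (tr phi Inv)
open K518.Phi (D)

namespace K524.Quad

section Hom

variable {C : Type*} [Category C] [CartesianMonoidalCategory C] [BraidedCategory C]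

theorem isMonHom_mul {M G : C} [MonObj M] [GrpObj G] [IsCommMonObj G] (f g : M ⟶ G) [IsMonHom f] [IsMonHom g] :
    IsMonHom (f * g) := inferInstanceAs (IsMonHom (lift f g ≫ μ[G]))

theorem isMonHom_zpow {M G : C} [MonObj M] [GrpObj G] [IsCommMonObj G] (f : M ⟶ G) [IsMonHom f] (d : ℤ) :
    IsMonHom (f ^ d) where
  one_hom := by
    rw [GrpObj.comp_zpow, IsMonHom.one_hom, MonObj.one_eq_one, one_zpow]
  mul_hom := by
    have hc : (fst M M ≫ f) * (snd M M ≫ f) = (snd M M ≫ f) * (fst M M ≫ f) := Hom.commGroup.mul_comm _ _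
    have hc' : Commute (fst M M ≫ f) (snd M M ≫ f) := hc
    have h1 : μ[M] ≫ f = (fst M M ≫ f) * (snd M M ≫ f) := by
      rw [IsMonHom.mul_hom, MonObj.mul_eq_mul, MonObj.comp_mul, tensorHom_fst, tensorHom_snd]
    rw [GrpObj.comp_zpow, h1, hc'.mul_zpow, MonObj.mul_eq_mul, MonObj.comp_mul, tensorHom_fst, tensorHom_snd, GrpObj.comp_zpow,
      GrpObj.comp_zpow]

end Hom

variable {k : Type u} [Field k] {X T : Over (Spec (CommRingCat.of k))} [GrpObj X] [IsProper X.hom]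
    [GeometricallyIntegral X.hom]

theorem pl_mul' (c : Pic X.left) (f g : T ⟶ X) : pl (f * g) c = pl f c * pl g c * D c f g := K518.Phi.pl_mul c f g

/-- `(f^n)^* c` for an integer `n`. -/
theorem pl_zpow (c : Pic X.left) (f : T ⟶ X) (n : ℤ) :
    ∀ s : ℤ, 2 * s = n * n - n → pl (f ^ n) c = pl f c ^ n * D c f f ^ s := by
  induction n using Int.induction_on with
  | zero =>
    intro s hs
    have : s = 0 := by omega
    rw [this, zpow_zero, zpow_zero, zpow_zero, mul_one]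
    exact pl_one c
  | succ n ih =>
    intro s hs
    have h1 := ih (s - n) (by linear_combination hs)
    rw [zpow_add_one, pl_mul', h1, K518.Phi.D_zpow_left, zpow_sub, zpow_add_one]
    apply Additive.ofMul.injective
    simp only [ofMul_mul, ofMul_zpow, ofMul_inv]
    module
  | pred n ih =>
    intro s hs
    have h1 := ih (s - (n : ℤ) - 1) (by linear_combination hs)
    have h2 := pl_mul' c (f ^ (-(n : ℤ) - 1)) f
    rw [← zpow_add_one, sub_add_cancel, h1, K518.Phi.D_zpow_left] at h2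
    have h3 := congrArg Additive.ofMul h2
    apply Additive.ofMul.injective
    simp only [ofMul_mul, ofMul_zpow, ofMul_inv] at h3 ⊢
    linear_combination (norm := module) -h3

/-- `[-1]^*c c⁻¹`. -/
noncomputable def del (c : Pic X.left) : Pic X.left := pl (𝟙 X)⁻¹ c * c⁻¹

theorem D_self (c : Pic X.left) (f : T ⟶ X) : D c f f = pl f c ^ 2 * pl f (del c) := by
  have h1 : D c f f⁻¹ = (D c f f)⁻¹ := by
    have := K518.Phi.D_zpow_right c f f (-1)
    rwa [zpow_neg_one, zpow_neg_one] at this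
  have h2 := pl_mul' c f f⁻¹
  rw [mul_inv_cancel, pl_one, h1] at h2
  have h3 : pl f (del c) = pl f⁻¹ c * (pl f c)⁻¹ := by
    rw [del, map_mul, map_inv, ← pl_comp, GrpObj.comp_inv, Category.comp_id]
  rw [h3]
  have h4 := congrArg Additive.ofMul h2
  apply Additive.ofMul.injective
  simp only [ofMul_mul, ofMul_pow, ofMul_inv, ofMul_one] at h4 ⊢
  linear_combination (norm := module) h4

/-- `(f^n)^* c = (f^*c)^{n²} (f^* del c)^{n(n-1)/2}`. -/
theorem pl_zpow_sq (c : Pic X.left) (f : T ⟶ X) (n s : ℤ) (hs : 2 * s = n * n - n) :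
    pl (f ^ n) c = pl f c ^ (n * n) * pl f (del c) ^ s := by
  rw [pl_zpow c f n s hs, D_self]
  apply Additive.ofMul.injective
  simp only [ofMul_mul, ofMul_zpow, ofMul_pow]
  linear_combination (norm := module) hs • Additive.ofMul (pl f c)

theorem exists_half (n : ℤ) : ∃ s : ℤ, 2 * s = n * n - n := by
  obtain ⟨s, hs⟩ := Int.even_mul_pred_self n
  exact ⟨s, by linear_combination -hs⟩

/-! ### Products -/

instance isProper_tensor (A B : Over (Spec (CommRingCat.of k))) [IsProper A.hom] [IsProper B.hom] :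
    IsProper (A ⊗ B).hom := by
  change IsProper (pullback.fst A.hom B.hom ≫ A.hom)
  infer_instance

instance geometricallyIntegral_tensor (A B : Over (Spec (CommRingCat.of k))) [IsProper A.hom]
    [IsProper B.hom] [GeometricallyIntegral A.hom] [GeometricallyIntegral B.hom] :
    GeometricallyIntegral (A ⊗ B).hom := by
  change GeometricallyIntegral (pullback.fst A.hom B.hom ≫ A.hom)
  exact Grpsch.CubeData.geometricallyIntegral_comp _ _

/-- `c ⊠ c ⊠ c ⊠ c`. -/
noncomputable def box4 (c : Pic X.left) : Pic ((X ⊗ X) ⊗ (X ⊗ X)).left :=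
  pl (fst (X ⊗ X) (X ⊗ X)) (pl (fst X X) c * pl (snd X X) c) *
    pl (snd (X ⊗ X) (X ⊗ X)) (pl (fst X X) c * pl (snd X X) c)

variable (X) in
noncomputable def x1 : (X ⊗ X) ⊗ (X ⊗ X) ⟶ X := fst (X ⊗ X) (X ⊗ X) ≫ fst X X
variable (X) in
noncomputable def x2 : (X ⊗ X) ⊗ (X ⊗ X) ⟶ X := fst (X ⊗ X) (X ⊗ X) ≫ snd X X
variable (X) in
noncomputable def x3 : (X ⊗ X) ⊗ (X ⊗ X) ⟶ X := snd (X ⊗ X) (X ⊗ X) ≫ fst X X
variable (X) in
noncomputable def x4 : (X ⊗ X) ⊗ (X ⊗ X) ⟶ X := snd (X ⊗ X) (X ⊗ X) ≫ snd X X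

theorem box4_eq (c : Pic X.left) : box4 c = pl (x1 X) c * pl (x2 X) c * (pl (x3 X) c * pl (x4 X) c) := by
  unfold box4 x1 x2 x3 x4
  rw [map_mul, map_mul, ← pl_comp, ← pl_comp, ← pl_comp, ← pl_comp]

/-- The endomorphism of `X⁴` with the quaternion matrix `(a, b, c, d)`. -/
noncomputable def quat (X : Over (Spec (CommRingCat.of k))) [GrpObj X] (a b c d : ℤ) :
    (X ⊗ X) ⊗ (X ⊗ X) ⟶ (X ⊗ X) ⊗ (X ⊗ X) :=
  lift (lift (x1 X ^ a * x2 X ^ b * x3 X ^ c * x4 X ^ d) (x1 X ^ (-b) * x2 X ^ a * x3 X ^ (-d) * x4 X ^ c))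
    (lift (x1 X ^ (-c) * x2 X ^ d * x3 X ^ a * x4 X ^ (-b)) (x1 X ^ (-d) * x2 X ^ (-c) * x3 X ^ b * x4 X ^ a))

omit [GrpObj X] [IsProper X.hom] [GeometricallyIntegral X.hom] in
theorem lift4_x1 (f g h l : T ⟶ X) : lift (lift f g) (lift h l) ≫ x1 X = f := by
  rw [x1, ← Category.assoc, lift_fst, lift_fst]

omit [GrpObj X] [IsProper X.hom] [GeometricallyIntegral X.hom] in
theorem lift4_x2 (f g h l : T ⟶ X) : lift (lift f g) (lift h l) ≫ x2 X = g := by
  rw [x2, ← Category.assoc, lift_fst, lift_snd]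

omit [GrpObj X] [IsProper X.hom] [GeometricallyIntegral X.hom] in
theorem lift4_x3 (f g h l : T ⟶ X) : lift (lift f g) (lift h l) ≫ x3 X = h := by
  rw [x3, ← Category.assoc, lift_snd, lift_fst]

omit [GrpObj X] [IsProper X.hom] [GeometricallyIntegral X.hom] in
theorem lift4_x4 (f g h l : T ⟶ X) : lift (lift f g) (lift h l) ≫ x4 X = l := by
  rw [x4, ← Category.assoc, lift_snd, lift_snd]

theorem hom_ext4 {T : Over (Spec (CommRingCat.of k))} {f g : T ⟶ (X ⊗ X) ⊗ (X ⊗ X)} (h1 : f ≫ x1 X = g ≫ x1 X)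
    (h2 : f ≫ x2 X = g ≫ x2 X) (h3 : f ≫ x3 X = g ≫ x3 X) (h4 : f ≫ x4 X = g ≫ x4 X) : f = g := by
  unfold x1 at h1
  unfold x2 at h2
  unfold x3 at h3
  unfold x4 at h4
  refine CartesianMonoidalCategory.hom_ext _ _ ?_ ?_
  · exact CartesianMonoidalCategory.hom_ext _ _ (by simpa using h1) (by simpa using h2)
  · exact CartesianMonoidalCategory.hom_ext _ _ (by simpa using h3) (by simpa using h4)

theorem pl_lift4 (c : Pic X.left) (f g h l : T ⟶ X) :
    pl (lift (lift f g) (lift h l)) (box4 c) = pl f c * pl g c * (pl h c * pl l c) := by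
  rw [box4_eq, map_mul, map_mul, map_mul, ← pl_comp, ← pl_comp, ← pl_comp, ← pl_comp, lift4_x1, lift4_x2, lift4_x3,
    lift4_x4]

theorem D_zpow_zpow (c : Pic X.left) (f g : T ⟶ X) (n m : ℤ) : D c (f ^ n) (g ^ m) = D c f g ^ (n * m) := by
  rw [K518.Phi.D_zpow_left, K518.Phi.D_zpow_right, ← zpow_mul, mul_comm]

/-- `α^*(c ⊠ c ⊠ c ⊠ c)` for the quaternion matrix `α`. -/
theorem pl_quat (c : Pic X.left) (a b e d : ℤ) : ∃ n₁ n₂ n₃ n₄ : ℤ, pl (quat X a b e d) (box4 c) =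
    (pl (x1 X) c * pl (x2 X) c * (pl (x3 X) c * pl (x4 X) c)) ^ (a * a + b * b + e * e + d * d) *
      (pl (x1 X) (del c) ^ n₁ * pl (x2 X) (del c) ^ n₂ * pl (x3 X) (del c) ^ n₃ * pl (x4 X) (del c) ^ n₄) := by
  have : IsCommMonObj X := isCommMonObj_of_isProper_of_geometricallyIntegral X
  obtain ⟨sa, ha⟩ := exists_half a
  obtain ⟨sb, hb⟩ := exists_half b
  obtain ⟨se, he⟩ := exists_half e
  obtain ⟨sd, hd⟩ := exists_half d
  obtain ⟨tb, hb'⟩ := exists_half (-b)
  obtain ⟨te, he'⟩ := exists_half (-e)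
  obtain ⟨td, hd'⟩ := exists_half (-d)
  refine ⟨sa + tb + te + td, sb + sa + sd + te, se + td + sa + sb, sd + se + tb + sa, ?_⟩
  have h := QuatAlg.quat (G := (X ⊗ X) ⊗ (X ⊗ X) ⟶ X) (V := Additive (Pic ((X ⊗ X) ⊗ (X ⊗ X)).left))
    (fun f => Additive.ofMul (pl f c)) (fun f g => Additive.ofMul (D c f g)) (fun f => Additive.ofMul (pl f (del c)))
    (fun f g => congrArg Additive.ofMul (pl_mul' c f g))
    (fun f g h => congrArg Additive.ofMul (K518.Phi.D_mul_left c f g h))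
    (fun f g n m => congrArg Additive.ofMul (D_zpow_zpow c f g n m))
    (fun f n s hs => congrArg Additive.ofMul (pl_zpow_sq c f n s hs)) (x1 X) (x2 X) (x3 X) (x4 X) a b e d
    sa sb se sd tb te td ha hb he hd hb' he' hd'
  unfold quat
  rw [pl_lift4]
  exact Additive.ofMul.injective h

theorem conj_comp (a b e d : ℤ) (m : ℕ) (hm : (m : ℤ) = a * a + b * b + e * e + d * d) :
    quat X a (-b) (-e) (-d) ≫ quat X a b e d = 𝟙 ((X ⊗ X) ⊗ (X ⊗ X)) ^ m := by
  have : IsCommMonObj X := isCommMonObj_of_isProper_of_geometricallyIntegral X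
  have i1 : IsMonHom (x1 X) := by unfold x1; infer_instance
  have i2 : IsMonHom (x2 X) := by unfold x2; infer_instance
  have i3 : IsMonHom (x3 X) := by unfold x3; infer_instance
  have i4 : IsMonHom (x4 X) := by unfold x4; infer_instance
  have h1 : quat X a (-b) (-e) (-d) ≫ x1 X = _ := lift4_x1 _ _ _ _
  have h2 : quat X a (-b) (-e) (-d) ≫ x2 X = _ := lift4_x2 _ _ _ _
  have h3 : quat X a (-b) (-e) (-d) ≫ x3 X = _ := lift4_x3 _ _ _ _
  have h4 : quat X a (-b) (-e) (-d) ≫ x4 X = _ := lift4_x4 _ _ _ _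
  refine hom_ext4 ?_ ?_ ?_ ?_
  · rw [Category.assoc, show quat X a b e d ≫ x1 X = _ from lift4_x1 _ _ _ _, MonObj.pow_comp, Category.id_comp]
    simp only [MonObj.comp_mul, GrpObj.comp_zpow, h1, h2, h3, h4]
    rw [← zpow_natCast, hm]
    apply Additive.ofMul.injective
    simp only [ofMul_mul, ofMul_zpow]
    module
  · rw [Category.assoc, show quat X a b e d ≫ x2 X = _ from lift4_x2 _ _ _ _, MonObj.pow_comp, Category.id_comp]
    simp only [MonObj.comp_mul, GrpObj.comp_zpow, h1, h2, h3, h4]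
    rw [← zpow_natCast, hm]
    apply Additive.ofMul.injective
    simp only [ofMul_mul, ofMul_zpow]
    module
  · rw [Category.assoc, show quat X a b e d ≫ x3 X = _ from lift4_x3 _ _ _ _, MonObj.pow_comp, Category.id_comp]
    simp only [MonObj.comp_mul, GrpObj.comp_zpow, h1, h2, h3, h4]
    rw [← zpow_natCast, hm]
    apply Additive.ofMul.injective
    simp only [ofMul_mul, ofMul_zpow]
    module
  · rw [Category.assoc, show quat X a b e d ≫ x4 X = _ from lift4_x4 _ _ _ _, MonObj.pow_comp, Category.id_comp]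
    simp only [MonObj.comp_mul, GrpObj.comp_zpow, h1, h2, h3, h4]
    rw [← zpow_natCast, hm]
    apply Additive.ofMul.injective
    simp only [ofMul_mul, ofMul_zpow]
    module

section AlgClosed

variable [IsAlgClosed k]

theorem inv_del (c : Pic X.left) : Inv (del c) := by
  have : IsCommMonObj X := isCommMonObj_of_isProper_of_geometricallyIntegral X
  refine K518.Phi.mem_Inv_iff.mp (K518.Phi.mem_Inv.mpr fun x => ?_)
  rw [del, K518.Phi.phi_mul_left, K518.Phi.phi_inv_left, K518.Phi.phi_pl, GrpObj.comp_inv, Category.comp_id,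
    K518.Phi.phi_inv, map_inv, K518.Phi.pl_inv_of_inv (K518.Phi.phi_mem_Inv c x), K518.Phi.pl_id, inv_inv,
    mul_inv_cancel]

theorem pl_inv {Y : Over (Spec (CommRingCat.of k))} [GrpObj Y] [IsProper Y.hom] [GeometricallyIntegral Y.hom]
    (f : Y ⟶ X) [IsMonHom f] {c : Pic X.left} (hc : Inv c) : Inv (pl f c) :=
  K518.Phi.mem_Inv_iff.mp (K518.Phi.pl_mem_Inv f (K518.Phi.mem_Inv_iff.mpr hc))

theorem Inv_zpow {c : Pic X.left} (hc : Inv c) (n : ℤ) : Inv (c ^ n) := fun a => by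
  rw [map_zpow, hc a]

theorem hasIdx_box4 {c : Pic X.left} {i : ℕ} (h : HasIdx c i) : HasIdx (box4 c) (i + i + (i + i)) :=
  (h.box h).box (h.box h)

/-- The index of a tensor power. -/
theorem HasIdx_pow {c : Pic X.left} {i : ℕ} (h : HasIdx c i) {m : ℕ} (hm : 0 < m) : HasIdx (c ^ m) i := by
  have hcomm : IsCommMonObj X := isCommMonObj_of_isProper_of_geometricallyIntegral X
  obtain ⟨a, b, e, d, hsum⟩ := Nat.sum_four_squares m
  have hnd : ND c := Bc.nd_of_hasIdx h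
  have hint : IsIntegral X.left := isIntegral_left
  obtain ⟨gX, hgX⟩ := JumpAV.exists_dim X
  obtain ⟨j, -, hj, -⟩ := (hnd.pow hm).exists_idx gX hgX
  have i1 : IsMonHom (x1 X) := by unfold x1; infer_instance
  have i2 : IsMonHom (x2 X) := by unfold x2; infer_instance
  have i3 : IsMonHom (x3 X) := by unfold x3; infer_instance
  have i4 : IsMonHom (x4 X) := by unfold x4; infer_instance
  have hz : ∀ (f : (X ⊗ X) ⊗ (X ⊗ X) ⟶ X) [IsMonHom f] (n : ℤ), IsMonHom (f ^ n) := fun f _ n => isMonHom_zpow f n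
  have hq : IsMonHom (quat X (a : ℤ) b e d) := by
    have hmul : ∀ (f g f' g' : (X ⊗ X) ⊗ (X ⊗ X) ⟶ X) (h1 : IsMonHom f) (h2 : IsMonHom g) (h3 : IsMonHom f')
        (h4 : IsMonHom g'), IsMonHom (f * g * f' * g') := fun f g f' g' _ _ _ _ =>
      @isMonHom_mul _ _ _ _ _ _ _ _ _ _ _ (@isMonHom_mul _ _ _ _ _ _ _ _ _ _ _ (isMonHom_mul f g) inferInstance)
        inferInstance
    have j1 := hmul _ _ _ _ (hz (x1 X) a) (hz (x2 X) b) (hz (x3 X) e) (hz (x4 X) d)
    have j2 := hmul _ _ _ _ (hz (x1 X) (-b)) (hz (x2 X) a) (hz (x3 X) (-d)) (hz (x4 X) e)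
    have j3 := hmul _ _ _ _ (hz (x1 X) (-e)) (hz (x2 X) d) (hz (x3 X) a) (hz (x4 X) (-b))
    have j4 := hmul _ _ _ _ (hz (x1 X) (-d)) (hz (x2 X) (-e)) (hz (x3 X) b) (hz (x4 X) a)
    unfold quat
    infer_instance
  have hbox := hasIdx_box4 h
  have hint4 : IsIntegral ((X ⊗ X) ⊗ (X ⊗ X)).left := isIntegral_left
  obtain ⟨g, hg⟩ := JumpAV.exists_dim ((X ⊗ X) ⊗ (X ⊗ X))
  have hm' : (m : ℤ) = (a : ℤ) * a + b * b + e * e + d * d := by
    rw [← hsum]
    push_cast
    ring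
  have h1 := HasIdx.pullback (quat X (a : ℤ) b e d) (quat X (a : ℤ) (-b) (-e) (-d)) hm (conj_comp _ _ _ _ m hm') g hg
    hg.le (Bc.nd_of_hasIdx hbox) hbox
  obtain ⟨n₁, n₂, n₃, n₄, hpl⟩ := pl_quat c (a : ℤ) b e d
  rw [← hm', zpow_natCast] at hpl
  have h2 : (pl (x1 X) c * pl (x2 X) c * (pl (x3 X) c * pl (x4 X) c)) ^ m = box4 (c ^ m) := by
    rw [box4_eq, map_pow, map_pow, map_pow, map_pow, mul_pow, mul_pow, mul_pow]
  rw [h2] at hpl
  have hbox' := hasIdx_box4 hj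
  have h3 := HasIdx.twist (Bc.nd_of_hasIdx hbox') (p := pl (x1 X) (del c) ^ n₁ * pl (x2 X) (del c) ^ n₂ *
    pl (x3 X) (del c) ^ n₃ * pl (x4 X) (del c) ^ n₄)
    (((((Inv_zpow (pl_inv _ (inv_del c)) n₁).mul (Inv_zpow (pl_inv _ (inv_del c)) n₂)).mul
      (Inv_zpow (pl_inv _ (inv_del c)) n₃)).mul (Inv_zpow (pl_inv _ (inv_del c)) n₄))) hbox'
  rw [← hpl] at h3
  have h4 := h1.unique h3
  have h5 : i = j := by omega
  rw [h5]
  exact hj

end AlgClosed

end K524.Quad
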