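import Mathlib.RingTheory.Regular.RegularSequence
import Mathlib.RingTheory.Regular.Flat
import Mathlib.LinearAlgebra.Quotient.Basic
import Mathlib.Tactic

/-!
# The acyclicity lemma for complexes of modules, in elementary form

`key`: let `M 0 = 0 → M 1 → M 2 → ⋯` be a complex of `R`-modules, `rs` a sequence of length `p + 1`, weakly regular on
all the `M i`, and suppose the complex is exact at `M 1, …, M p`.  Then an element of `M (p + 1)` killed by `d` and
such that `r • z` is in the image of `d` for all `r ∈ rs` is in the image of `d`.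
-/

set_option autoImplicit false

universe u v

namespace K524.AcycAlg

open RingTheory.Sequence

variable {R : Type u} [CommRing R]

section

variable (M : ℕ → Type v) [∀ i, AddCommGroup (M i)] [∀ i, Module R (M i)] (d : ∀ i, M i →ₗ[R] M (i + 1))

theorem key : ∀ (p : ℕ) (M : ℕ → Type v) [∀ i, AddCommGroup (M i)] [∀ i, Module R (M i)]
    (d : ∀ i, M i →ₗ[R] M (i + 1)) (_ : ∀ i x, d (i + 1) (d i x) = 0) (_ : Subsingleton (M 0))
    (rs : List R) (_ : rs.length = p + 1) (_ : ∀ i, IsWeaklyRegular (M i) rs)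
    (_ : ∀ i, i < p → ∀ x, d (i + 1) x = 0 → ∃ y, d i y = x)
    (z : M (p + 1)) (_ : d (p + 1) z = 0) (_ : ∀ r ∈ rs, ∃ y, d p y = r • z), ∃ y, d p y = z := by
  intro p
  induction p with
  | zero =>
    intro M _ _ d hdd h0 rs hrs hreg hex z hz hrz
    obtain ⟨r, rs', rfl⟩ : ∃ r rs', rs = r :: rs' := by
      cases rs with
      | nil => simp at hrs
      | cons r rs' => exact ⟨r, rs', rfl⟩
    obtain ⟨y, hy⟩ := hrz r List.mem_cons_self
    have hy0 : y = 0 := Subsingleton.elim _ _
    rw [hy0, map_zero] at hy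
    have h1 : IsSMulRegular (M (0 + 1)) r := ((isWeaklyRegular_cons_iff _ _ _).mp (hreg (0 + 1))).1
    have h2 : z = 0 := h1 (by
      change r • z = r • 0
      rw [← hy, smul_zero])
    exact ⟨0, by rw [map_zero, h2]⟩
  | succ p ih =>
    intro M _ _ d hdd h0 rs hrs hreg hex z hz hrz
    obtain ⟨r, rs', rfl⟩ : ∃ r rs', rs = r :: rs' := by
      cases rs with
      | nil => simp at hrs
      | cons r rs' => exact ⟨r, rs', rfl⟩
    have hrs' : rs'.length = p + 1 := by simpa using hrs
    have hr : ∀ i, IsSMulRegular (M i) r := fun i => ((isWeaklyRegular_cons_iff _ _ _).mp (hreg i)).1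
    have hr0 : ∀ i (x : M i), r • x = 0 → x = 0 := fun i x hx => (hr i) (by
      change r • x = r • 0
      rw [hx, smul_zero])
    -- the quotient complex
    let Q : ℕ → Type v := fun i => QuotSMulTop r (M i)
    let dQ : ∀ i, Q i →ₗ[R] Q (i + 1) := fun i => QuotSMulTop.map r (d i)
    have hQmk : ∀ i (x : M i), dQ i (Submodule.Quotient.mk x) = Submodule.Quotient.mk (d i x) := fun i x => rfl
    have hmk : ∀ i (x : M i), (Submodule.Quotient.mk x : Q i) = 0 ↔ ∃ y, r • y = x := by
      intro i x
      rw [Submodule.Quotient.mk_eq_zero, Submodule.mem_smul_pointwise_iff_exists]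
      simp
    obtain ⟨w, hw⟩ := hrz r List.mem_cons_self
    obtain ⟨v, hv⟩ : ∃ v, dQ p v = (Submodule.Quotient.mk w : Q (p + 1)) := by
      refine ih Q dQ ?_ ?_ rs' hrs' ?_ ?_ (Submodule.Quotient.mk w) ?_ ?_
      · intro i x
        obtain ⟨x, rfl⟩ := Submodule.Quotient.mk_surjective _ x
        rw [hQmk, hQmk, hdd]
        rfl
      · exact ⟨fun a b => by
          obtain ⟨a, rfl⟩ := Submodule.Quotient.mk_surjective _ a
          obtain ⟨b, rfl⟩ := Submodule.Quotient.mk_surjective _ b
          rw [Subsingleton.elim a b]⟩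
      · intro i
        exact ((isWeaklyRegular_cons_iff _ _ _).mp (hreg i)).2
      · intro i hi x hx
        obtain ⟨x, rfl⟩ := Submodule.Quotient.mk_surjective _ x
        rw [hQmk, hmk] at hx
        obtain ⟨t, ht⟩ := hx
        have h1 : d (i + 1 + 1) t = 0 := by
          apply hr0
          rw [← map_smul, ht, hdd]
        obtain ⟨s, hs⟩ := hex (i + 1) (by omega) t h1
        have h2 : d (i + 1) (x - r • s) = 0 := by
          rw [map_sub, map_smul, hs, ht, sub_self]
        obtain ⟨q, hq⟩ := hex i (by omega) _ h2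
        refine ⟨Submodule.Quotient.mk q, ?_⟩
        rw [hQmk, hq, Submodule.Quotient.mk_sub, (hmk _ (r • s)).mpr ⟨s, rfl⟩, sub_zero]
      · rw [hQmk, hmk]
        exact ⟨z, hw.symm⟩
      · intro r' hr'
        obtain ⟨u', hu'⟩ := hrz r' (List.mem_cons_of_mem _ hr')
        have h1 : d (p + 1) (r' • w - r • u') = 0 := by
          rw [map_sub, map_smul, map_smul, hw, hu', smul_comm, sub_self]
        obtain ⟨q, hq⟩ := hex p (by omega) _ h1
        refine ⟨Submodule.Quotient.mk q, ?_⟩
        rw [hQmk, hq, Submodule.Quotient.mk_sub, (hmk _ (r • u')).mpr ⟨u', rfl⟩, sub_zero,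
          Submodule.Quotient.mk_smul]
    obtain ⟨v, rfl⟩ := Submodule.Quotient.mk_surjective _ v
    rw [hQmk] at hv
    have h3 : (Submodule.Quotient.mk (w - d p v) : Q (p + 1)) = 0 := by
      rw [Submodule.Quotient.mk_sub, hv, sub_self]
    rw [hmk] at h3
    obtain ⟨w', hw'⟩ := h3
    refine ⟨w', ?_⟩
    have h4 : r • (d (p + 1) w' - z) = 0 := by
      rw [smul_sub, ← map_smul, hw', map_sub, hdd, hw, sub_zero, sub_self]
    exact sub_eq_zero.mp (hr0 _ _ h4)

end

end K524.AcycAlg
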