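import Groth.Prelude.Def_ega3
import Groth.Agent.Ega3B.VanishFibre
import Groth.Agent.AbVar.K524.AcycAlg
import Mathlib.Algebra.Module.LocalizedModule.Exact
import Mathlib.RingTheory.Ideal.AssociatedPrime.Basic

/-!
# Acyclicity of a complex of finite flat modules with cohomology supported in high depth

`subsingleton_homology`: let `P` be a complex of finite flat modules over a Noetherian ring in non-positive homological
degrees such that for every prime `x` with `H_{-p}(P ⊗ k(x)) ≠ 0` for some `p < g` there is a weakly regular sequence of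
length `g` in the maximal ideal of the local ring.  Then `H_{-p}(P) = 0` for `p < g`.
-/

set_option autoImplicit false

universe u

namespace K524.AcycCx

open CategoryTheory CategoryTheory.Limits RingTheory.Sequence

variable {A : Type u} [CommRing A]

theorem rep_sc (S : ShortComplex (ModuleCat.{u} A)) (m : S.homology) :
    ∃ z : S.X₂, S.g.hom z = 0 ∧ ∀ s : A, s • m = 0 ↔ ∃ w : S.X₁, S.f.hom w = s • z := by
  let e : S.homology ≃ₗ[A] (LinearMap.ker S.g.hom ⧸ LinearMap.range S.moduleCatToCycles) :=
    S.moduleCatHomologyIso.toLinearEquiv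
  obtain ⟨⟨z, hz⟩, hzm⟩ := Submodule.mkQ_surjective (LinearMap.range S.moduleCatToCycles) (e m)
  have hz' : S.g.hom z = 0 := hz
  refine ⟨z, hz', fun s => ?_⟩
  have h1 : s • m = 0 ↔ e (s • m) = 0 := (LinearEquiv.map_eq_zero_iff e).symm
  have h2 : e (s • m) = (LinearMap.range S.moduleCatToCycles).mkQ (s • (⟨z, hz⟩ : LinearMap.ker S.g.hom)) := by
    rw [map_smul, map_smul, hzm]
  rw [h1, h2]
  have h3 : ((LinearMap.range S.moduleCatToCycles).mkQ (s • (⟨z, hz⟩ : LinearMap.ker S.g.hom)) = 0) ↔
      s • (⟨z, hz⟩ : LinearMap.ker S.g.hom) ∈ LinearMap.range S.moduleCatToCycles := by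
    rw [Submodule.mkQ_apply, Submodule.Quotient.mk_eq_zero]
  refine h3.trans ?_
  constructor
  · rintro ⟨w, hw⟩
    exact ⟨w, congrArg Subtype.val hw⟩
  · rintro ⟨w, hw⟩
    exact ⟨w, Subtype.ext hw⟩

/-- Elements of the homology are represented by cycles. -/
theorem rep {ι : Type*} {c : ComplexShape ι} (P : HomologicalComplex (ModuleCat.{u} A) c) (i j k : ι)
    (hi : c.prev j = i) (hk : c.next j = k) (m : P.homology j) :
    ∃ z : P.X j, (P.d j k).hom z = 0 ∧ ∀ s : A, s • m = 0 ↔ ∃ w : P.X i, (P.d i j).hom w = s • z := by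
  subst hi hk
  exact rep_sc (P.sc j) m

theorem exact_of_subsingleton {ι : Type*} {c : ComplexShape ι} (P : HomologicalComplex (ModuleCat.{u} A) c)
    (i j k : ι) (hi : c.prev j = i) (hk : c.next j = k) (h : Subsingleton (P.homology j)) :
    Function.Exact (P.d i j).hom (P.d j k).hom := by
  subst hi hk
  have h1 : (P.sc j).Exact := by
    rw [ShortComplex.exact_iff_isZero_homology]
    exact @ModuleCat.isZero_of_subsingleton A _ _ h
  rw [ShortComplex.moduleCat_exact_iff] at h1
  intro x
  constructor
  · intro hx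
    obtain ⟨w, hw⟩ := h1 x hx
    exact ⟨w, hw⟩
  · rintro ⟨w, rfl⟩
    have := ConcreteCategory.congr_hom (P.d_comp_d (c.prev j) j (c.next j)) w
    exact this

variable [IsNoetherianRing A] (P : ChainComplex (ModuleCat.{u} A) ℤ)

/-- Let `P` be a complex of finite flat modules over a Noetherian ring in non-positive homological degrees.  Suppose for
every prime `x` such that some `H_{-p}(P ⊗ k(x))`, `p < g`, is nonzero there is a weakly regular sequence of length `g` in the
maximal ideal of the local ring.  Then `H_{-p}(P) = 0` for `p < g`. -/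
theorem subsingleton_homology_aux (hfin : ∀ i, Module.Finite A (P.X i)) (hflat : ∀ i, Module.Flat A (P.X i))
    (hpos : ∀ i, 0 < i → IsZero (P.X i)) (g : ℕ)
    (hreg : ∀ x : PrimeSpectrum A, (∃ p : ℕ, p < g ∧ CohIII.dRank P (-(p : ℤ)) x ≠ 0) →
      ∃ rs : List (Localization.AtPrime x.asIdeal), rs.length = g ∧
        (∀ r ∈ rs, r ∈ IsLocalRing.maximalIdeal (Localization.AtPrime x.asIdeal)) ∧
        IsWeaklyRegular (Localization.AtPrime x.asIdeal) rs) (p : ℕ) (hp : p < g) :
    Subsingleton (P.homology (1 - ((p + 1 : ℕ) : ℤ))) := by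
  induction p using Nat.strong_induction_on with
  | _ p ih =>
    by_contra hne
    rw [not_subsingleton_iff_nontrivial] at hne
    obtain ⟨q, hq⟩ := associatedPrimes.nonempty A (P.homology (1 - ((p + 1 : ℕ) : ℤ)))
    rw [AssociatedPrimes.mem_iff, isAssociatedPrime_iff] at hq
    obtain ⟨hqp, m, hm⟩ := hq
    let x : PrimeSpectrum A := ⟨q, hqp⟩
    have hq : ∀ s : A, s ∈ q ↔ s • m = 0 := fun s => by
      rw [hm, Submodule.mem_colon_singleton, Submodule.mem_bot]
    have hloc : ¬ Subsingleton (LocalizedModule x.asIdeal.primeCompl (P.homology (1 - ((p + 1 : ℕ) : ℤ)))) := by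
      intro h
      rw [IsLocalizedModule.subsingleton_iff x.asIdeal.primeCompl
        (LocalizedModule.mkLinearMap x.asIdeal.primeCompl (P.homology (1 - ((p + 1 : ℕ) : ℤ))))] at h
      obtain ⟨r, hr, hrm⟩ := h m
      exact hr ((hq r).mpr hrm)
    have hrank : CohIII.dRank P (-(p : ℤ)) x ≠ 0 := by
      intro h
      apply hloc
      have e : (1 - ((p + 1 : ℕ) : ℤ)) = -(p : ℤ) := by push_cast; ring
      rw [e]
      exact Groth.Agent.Ega3B.VanishFibre.subsingleton_localized_homology P (-(p : ℤ)) (-(p : ℤ) - 1)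
        (by simp [ComplexShape.down]) (hfin _) (hfin _) (hflat _) x h
    obtain ⟨rs, hrs, hmem, hwr⟩ := hreg x ⟨p, hp, hrank⟩
    have hS : ∀ i : ℤ, Module.Flat (Localization x.asIdeal.primeCompl)
        (LocalizedModule x.asIdeal.primeCompl (P.X i)) := fun i => by
      have := hflat i
      infer_instance
    let M : ℕ → Type u := fun i => LocalizedModule x.asIdeal.primeCompl (P.X (1 - (i : ℤ)))
    let d : ∀ i, M i →ₗ[Localization x.asIdeal.primeCompl] M (i + 1) := fun i =>
      LocalizedModule.map x.asIdeal.primeCompl (P.d (1 - (i : ℤ)) (1 - ((i + 1 : ℕ) : ℤ))).hom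
    have hrel : ∀ i : ℕ, (ComplexShape.down ℤ).Rel (1 - (i : ℤ)) (1 - ((i + 1 : ℕ) : ℤ)) := fun i => by
      rw [ComplexShape.down_Rel]
      push_cast
      ring
    obtain ⟨z, hz, hsz⟩ := rep P (1 - (p : ℤ)) (1 - ((p + 1 : ℕ) : ℤ)) (1 - ((p + 1 + 1 : ℕ) : ℤ))
      (ComplexShape.prev_eq' _ (hrel p)) (ComplexShape.next_eq' _ (hrel (p + 1))) m
    obtain ⟨y, hy⟩ := AcycAlg.key (R := Localization x.asIdeal.primeCompl) p M d (fun i w => by
        induction w using LocalizedModule.induction_on with
        | _ w s =>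
          have := ConcreteCategory.congr_hom
            (P.d_comp_d (1 - (i : ℤ)) (1 - ((i + 1 : ℕ) : ℤ)) (1 - ((i + 1 + 1 : ℕ) : ℤ))) w
          have h' : (P.d (1 - ((i + 1 : ℕ) : ℤ)) (1 - ((i + 1 + 1 : ℕ) : ℤ))).hom
            ((P.d (1 - (i : ℤ)) (1 - ((i + 1 : ℕ) : ℤ))).hom w) = 0 := this
          dsimp only [d]
          rw [LocalizedModule.map_mk]
          erw [LocalizedModule.map_mk]
          exact (congrArg (fun v => LocalizedModule.mk v s) h').trans (LocalizedModule.zero_mk s))
      (by
        have h0 : Subsingleton (P.X (1 - ((0 : ℕ) : ℤ))) :=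
          ModuleCat.subsingleton_of_isZero (hpos _ (by simp))
        exact IsLocalizedModule.subsingleton_of_subsingleton x.asIdeal.primeCompl
          (LocalizedModule.mkLinearMap x.asIdeal.primeCompl (P.X (1 - ((0 : ℕ) : ℤ)))))
      (rs.take (p + 1)) (by rw [List.length_take, hrs]; omega) (fun i => by
        have h1 : IsWeaklyRegular (Localization x.asIdeal.primeCompl) (rs.take (p + 1)) := by
          have h2 : IsWeaklyRegular (Localization x.asIdeal.primeCompl) (rs.take (p + 1) ++ rs.drop (p + 1)) := by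
            rw [List.take_append_drop]; exact hwr
          exact ((isWeaklyRegular_append_iff _ _ _).mp h2).1
        have h3 := h1.isWeaklyRegular_lTensor (M₂ := M i)
        exact ((TensorProduct.rid (Localization x.asIdeal.primeCompl) (M i)).isWeaklyRegular_congr _).mp h3)
      (fun i hi w hw => by
        have h1 := exact_of_subsingleton P (1 - (i : ℤ)) (1 - ((i + 1 : ℕ) : ℤ)) (1 - ((i + 1 + 1 : ℕ) : ℤ))
          (ComplexShape.prev_eq' _ (hrel i)) (ComplexShape.next_eq' _ (hrel (i + 1))) (ih i hi (by omega))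
        exact (LocalizedModule.map_exact x.asIdeal.primeCompl _ _ h1 w).mp hw)
      (LocalizedModule.mk z 1) (by
        dsimp only [d]
        erw [LocalizedModule.map_mk]
        exact (congrArg (fun v => LocalizedModule.mk v 1) hz).trans (LocalizedModule.zero_mk 1))
      (fun r hr => by
        have hr' : r ∈ IsLocalRing.maximalIdeal (Localization.AtPrime x.asIdeal) := hmem r (List.mem_of_mem_take hr)
        obtain ⟨a, s, rfl⟩ := IsLocalization.exists_mk'_eq x.asIdeal.primeCompl r
        have ha : a ∈ q := by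
          have := (IsLocalization.AtPrime.mk'_mem_maximal_iff (Localization.AtPrime x.asIdeal) x.asIdeal a s).mp hr'
          exact this
        obtain ⟨w, hw⟩ := (hsz a).mp ((hq a).mp ha)
        refine ⟨LocalizedModule.mk w s, ?_⟩
        dsimp only [d]
        erw [LocalizedModule.map_mk]
        refine (congrArg (fun v => LocalizedModule.mk v s) hw).trans ?_
        rw [← Localization.mk_eq_mk', LocalizedModule.mk_smul_mk, mul_one])
    induction y using LocalizedModule.induction_on with
    | _ w s =>
      have hy2 : LocalizedModule.mk ((P.d (1 - (p : ℤ)) (1 - ((p + 1 : ℕ) : ℤ))).hom w) s =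
          (LocalizedModule.mk z 1 : LocalizedModule x.asIdeal.primeCompl _) := by
        rw [← hy]
        dsimp only [d]
        erw [LocalizedModule.map_mk]
      rw [LocalizedModule.mk_eq] at hy2
      obtain ⟨t, ht⟩ := hy2
      have h1 : ((t : A) * s) • m = 0 := by
        rw [hsz]
        refine ⟨(t : A) • w, ?_⟩
        rw [one_smul] at ht
        rw [map_smul, mul_smul]
        exact ht
      have h2 : ((t : A) * s) ∈ q := (hq _).mpr h1
      rcases hqp.mem_or_mem h2 with h3 | h3
      · exact t.2 h3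
      · exact s.2 h3

theorem subsingleton_homology (hfin : ∀ i, Module.Finite A (P.X i)) (hflat : ∀ i, Module.Flat A (P.X i))
    (hpos : ∀ i, 0 < i → IsZero (P.X i)) (g : ℕ)
    (hreg : ∀ x : PrimeSpectrum A, (∃ p : ℕ, p < g ∧ CohIII.dRank P (-(p : ℤ)) x ≠ 0) →
      ∃ rs : List (Localization.AtPrime x.asIdeal), rs.length = g ∧
        (∀ r ∈ rs, r ∈ IsLocalRing.maximalIdeal (Localization.AtPrime x.asIdeal)) ∧
        IsWeaklyRegular (Localization.AtPrime x.asIdeal) rs) (p : ℕ) (hp : p < g) :
    Subsingleton (P.homology (-(p : ℤ))) := by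
  have h := subsingleton_homology_aux P hfin hflat hpos g hreg p hp
  have e : (1 - ((p + 1 : ℕ) : ℤ)) = -(p : ℤ) := by push_cast; ring
  rwa [e] at h

end K524.AcycCx
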