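import Groth.Agent.AbVar.K512.Acyc

/-!
# Vanishing of cohomology in low degrees from the vanishing of higher direct images

`subsingleton_HH_of_below`: `f : X ⟶ Y` quasi-compact separated, `Y` quasi-compact separated, `F` quasi-coherent with
`R^q f_* F = 0` for `q < m`.  Then `H^n(X, F) = 0` for `n < m`.
-/

set_option autoImplicit false
universe u

open CategoryTheory CategoryTheory.Limits AlgebraicGeometry Opposite TopologicalSpace
open Groth.Agent Groth.Agent.CohqA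

namespace K524.Below

section Top

variable {X : TopCat.{u}} (F : CohTop.Ab X)

/-- The cohomology of `F` over `U` vanishes in degrees `< m`. -/
def Bel (m : ℕ) (U : Opens X) : Prop := ∀ n, n < m → Subsingleton (CohTop.HU F n U)

variable {F}

theorem bel_sup {m : ℕ} {U V : Opens X} (h : Bel F m (U ⊓ V)) (hU : Bel F m U) (hV : Bel F m V) :
    Bel F m (U ⊔ V) := by
  intro n hn
  cases n with
  | zero =>
    exact (K512.Acyc.hu0_iff _).2 (K512.Acyc.sections_sup ((K512.Acyc.hu0_iff _).1 (hU 0 hn))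
      ((K512.Acyc.hu0_iff _).1 (hV 0 hn)))
  | succ n => exact MV.subsingleton_sup F U V n (h n (by omega)) (hU _ hn) (hV _ hn)

end Top

variable {X Y : Scheme.{u}} {f : X ⟶ Y} {F : X.Modules}

theorem bel_of_affine {m : ℕ} [Y.IsSeparated]
    (h : ∀ W : Y.Opens, IsAffineOpen W → Bel (X := X.toTopCat) (Coh.toAb F) m (f ⁻¹ᵁ W))
    (U : Y.Opens) (hU : IsCompact (U : Set Y)) : Bel (X := X.toTopCat) (Coh.toAb F) m (f ⁻¹ᵁ U) := by
  have key : Bel (X := X.toTopCat) (Coh.toAb F) m (f ⁻¹ᵁ U) ∧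
      ∀ U' : Y.Opens, IsAffineOpen U' → Bel (X := X.toTopCat) (Coh.toAb F) m (f ⁻¹ᵁ (U ⊓ U')) := by
    refine compact_open_induction_on (P := fun U => Bel (X := X.toTopCat) (Coh.toAb F) m (f ⁻¹ᵁ U) ∧
      ∀ U' : Y.Opens, IsAffineOpen U' → Bel (X := X.toTopCat) (Coh.toAb F) m (f ⁻¹ᵁ (U ⊓ U'))) U hU ?_ ?_
    · have h0 : ∀ n, n < m → Subsingleton (CohTop.HU (X := X.toTopCat) (Coh.toAb F) n ⊥) := fun n _ =>
        MV.subsingleton_bot (X := X.toTopCat) (Coh.toAb F) n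
      refine ⟨h0, fun U' _ => ?_⟩
      rw [bot_inf_eq]
      exact h0
    · intro S _ U1 ih
      refine ⟨bel_sup (U := f ⁻¹ᵁ S) (V := f ⁻¹ᵁ (U1 : Y.Opens)) (ih.2 _ U1.2) ih.1 (h _ U1.2), fun U' hU' => ?_⟩
      rw [inf_sup_right]
      have h1 : IsAffineOpen ((U1 : Y.Opens) ⊓ U') := U1.2.inf hU'
      refine bel_sup (U := f ⁻¹ᵁ (S ⊓ U')) (V := f ⁻¹ᵁ ((U1 : Y.Opens) ⊓ U')) ?_ (ih.2 U' hU') (h _ h1)
      have h2 : S ⊓ U' ⊓ ((U1 : Y.Opens) ⊓ U') = S ⊓ ((U1 : Y.Opens) ⊓ U') := by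
        rw [inf_assoc, inf_left_comm U', inf_idem]
      have h3 : f ⁻¹ᵁ (S ⊓ U') ⊓ f ⁻¹ᵁ ((U1 : Y.Opens) ⊓ U') = f ⁻¹ᵁ (S ⊓ ((U1 : Y.Opens) ⊓ U')) := by
        rw [← h2]
        rfl
      rw [h3]
      exact ih.2 _ h1
  exact key.1

theorem subsingleton_HH_of_below [QuasiCompact f] [IsSeparated f] [Y.IsSeparated] [CompactSpace Y]
    [HasInjectiveResolutions X.Modules] (hF : Coh.IsQCoh F) (m : ℕ)
    (h : ∀ q, q < m → IsZero ((Coh.Rpush f q).obj F)) (n : ℕ) (hn : n < m) : Subsingleton (Coh.HH X F n) := by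
  have h1 := bel_of_affine (f := f) (F := F) (m := m) (fun W hW q hq => by
    have h2 := Groth.Agent.Ega3B.RpushAff.subsingleton_HHon_of_isZero f F hF hW q (h q hq)
    exact (Flat2D.LocalGlobalH.HU_iff_HHon F _ q).mpr h2) ⊤ isCompact_univ n hn
  exact (Flat2D.LocalGlobalH.HU_top_iff F n).mp h1

end K524.Below
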