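import Groth.Agent.AbVar.K524.Growth
import Groth.Agent.Pic13.H946.Growth

/-!
# Cutting down by sections of powers of an ample module

* `exists_cut`: `F` coherent with support of dimension `e + 1`, `H` ample: there are `m ≥ 1` and `Q` coherent with support
  of dimension `e` whose twists compare with those of `F`.
* `exists_cuts`: the `r`-fold cut of the structure sheaf and its effect on modules with cohomology in one degree.
-/

set_option autoImplicit false
universe u
open CategoryTheory CategoryTheory.Limits AlgebraicGeometry Opposite TopologicalSpace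

namespace K524.Cuts

open Groth.Agent Groth.Agent.Fga Groth.Agent.Fga.PicMon Groth.Agent.CohqB.SerTw Groth.Agent.Fga.RegSec
open Groth.Agent.Fdesc.LocGen Groth.Agent.Pic13.H946.Core K524.Growth

variable (k : Type u) [Field k] {X : Scheme.{u}} [X.Over (Spec (CommRingCat.of k))]
  [IsProper (X ↘ Spec (CommRingCat.of k))]

theorem exists_cut {L H : X.Modules} (hL : PicF.IsInvertible L) (hH : CohB1.IsAmple H) (F : X.Modules)
    (hF : Coh.IsCoh F) (e : ℕ) (he : topologicalKrullDim (CohB1.support F) = ((e + 1 : ℕ) : WithBot ℕ∞)) :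
    ∃ (m : ℕ) (Q : X.Modules), 1 ≤ m ∧ Coh.IsCoh Q ∧ topologicalKrullDim (CohB1.support Q) = e ∧
      ∀ a b j, h k L H a b j Q ≤ h k L H a (b + m) j F + h k L H a b (j + 1) F ∧
        h k L H a (b + m) j F ≤ h k L H a b j F + h k L H a b j Q := by
  obtain ⟨n, s, hmono, hdim⟩ := HypSec.exists_cut k X H hH F hF e he
  have hN : PicF.IsInvertible (CohB1.tensorPow H (n + 1)) := isInvertible_tensorPow hH.1 _
  have hNF : Coh.IsCoh (CohB1.tensorMod (CohB1.tensorPow H (n + 1)) F) :=
    Sga67.CohBasic.isCoh_of_iso (Ega2.Tens.swap F _) (TwistCoh.isCoh_tensor hF hN)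
  have hQ : Coh.IsCoh (cokernel (mulS s F)) := Sga67.CohBasic.isCoh_cokernel _ hF.1 hNF
  refine ⟨n + 1, cokernel (mulS s F), Nat.succ_pos n, hQ, hdim, fun a b j => ?_⟩
  have e1 : ∀ j, h k L H a b j (CohB1.tensorMod (CohB1.tensorPow H (n + 1)) F) = h k L H a (b + (n + 1)) j F := by
    intro j
    refine finrank_congr k ?_ j
    rw [mc_tensor, mc_tensor, mc_tensor, mc_T, mc_T, mc_tensorPow, pow_add (mc H) b]
    ac_rfl
  have hS := cokSeq_shortExact (mulS s F)
  have t1 := h_right k hL hH.1 hS hF hNF hQ a b j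
  have t2 := h_mid k hL hH.1 hS hF hNF hQ a b j
  change h k L H a b j (cokernel (mulS s F)) ≤
    h k L H a b j (CohB1.tensorMod (CohB1.tensorPow H (n + 1)) F) + h k L H a b (j + 1) F at t1
  change h k L H a b j (CohB1.tensorMod (CohB1.tensorPow H (n + 1)) F) ≤
    h k L H a b j F + h k L H a b j (cokernel (mulS s F)) at t2
  rw [e1] at t1 t2
  exact ⟨t1, t2⟩

theorem exists_cuts {L H : X.Modules} (hL : PicF.IsInvertible L) (hH : CohB1.IsAmple H) (g : ℕ)
    (hO : topologicalKrullDim (CohB1.support (Coh.structureModule X)) = g)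
    (hcO : Coh.IsCoh (Coh.structureModule X)) (r : ℕ) (hr : r ≤ g) :
    ∃ (M : ℕ) (G : X.Modules), Coh.IsCoh G ∧ topologicalKrullDim (CohB1.support G) = ((g - r : ℕ) : WithBot ℕ∞) ∧
      (∀ N i a, (∀ b, a ≤ b → b ≤ a + M → ∀ j, j ≠ i → h k L H N b j (Coh.structureModule X) = 0) →
        ∀ j, (i < j ∨ j + r < i) → h k L H N a j G = 0) ∧
      (∀ N i i' a, i' + r ≤ i → (∀ b, a ≤ b → b < a + M → ∀ j, j ≠ i → h k L H N b j (Coh.structureModule X) = 0) →
        h k L H N (a + M) i' (Coh.structureModule X) ≤ h k L H N a i' G) := by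
  induction r with
  | zero =>
    refine ⟨0, Coh.structureModule X, hcO, hO, fun N i a hv j hj => ?_, fun N i i' a _ _ => le_rfl⟩
    exact hv a le_rfl le_rfl j (by omega)
  | succ r ih =>
    obtain ⟨M, G, hG, hdim, hV, hI⟩ := ih (by omega)
    obtain ⟨m, Q, hm, hQ, hQdim, hcut⟩ := exists_cut k hL hH G hG (g - (r + 1)) (by
      rw [hdim]
      congr 1
      have : g - r = g - (r + 1) + 1 := by omega
      rw [this])
    refine ⟨M + m, Q, hQ, hQdim, fun N i a hv j hj => ?_, fun N i i' a hi hv => ?_⟩
    · have t1 := (hcut N a j).1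
      have t2 : h k L H N (a + m) j G = 0 := hV N i (a + m) (fun b h1 h2 => hv b (by omega) (by omega)) j (by omega)
      have t3 : h k L H N a (j + 1) G = 0 := hV N i a (fun b h1 h2 => hv b (by omega) (by omega)) (j + 1) (by omega)
      omega
    · have t1 := (hcut N a i').2
      have t2 := hI N i i' (a + m) (by omega) (fun b h1 h2 => hv b (by omega) (by omega))
      have t3 : h k L H N a i' G = 0 := hV N i a (fun b h1 h2 => hv b (by omega) (by omega)) i' (by omega)
      have t4 : a + m + M = a + (M + m) := by omega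
      rw [t4] at t2
      omega

end K524.Cuts
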