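import Groth.Agent.Fga.SnapperAbs
import Groth.Agent.Pic13.H946.Core
import Groth.Agent.S0002
import Groth.Agent.Fga.IntNum0

/-!
# Growth of cohomology of the twists `F ⊗ L^a ⊗ H^b`

`X` proper over a field, `L`, `H` invertible, `F` coherent with `dim Supp F < d`; then for every `j` the dimension of
`H^j(X, F ⊗ L^a ⊗ H^b)` is at most `C (a + b + 1)^{d - 1}` (and `F = 0` if `d = 0`): `main`.
-/

set_option autoImplicit false
universe u
open CategoryTheory CategoryTheory.Limits AlgebraicGeometry Opposite TopologicalSpace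

namespace K524.Growth

open Groth.Agent Groth.Agent.Fga Groth.Agent.Fga.PicMon Groth.Agent.CohqB.SerTw Groth.Agent.VarietyA.EulerAdd
open Groth.Agent.Fdesc.LocGen

/-- The bounding function: `0` for `d = 0` and `(m + 1)^{d - 1}` otherwise. -/
def B : ℕ → ℕ → ℕ
  | 0, _ => 0
  | d + 1, m => (m + 1) ^ d

theorem B_mono (d : ℕ) : Monotone (B d) := by
  intro m n h
  cases d with
  | zero => exact le_rfl
  | succ d => exact Nat.pow_le_pow_left (Nat.succ_le_succ h) d

theorem mul_B_le (d m : ℕ) : m * B d m ≤ B (d + 1) m := by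
  cases d with
  | zero => simp [B]
  | succ d =>
    change m * (m + 1) ^ d ≤ (m + 1) ^ (d + 1)
    rw [pow_succ, mul_comm]
    exact Nat.mul_le_mul_left _ (Nat.le_succ m)

theorem one_le_B (d m : ℕ) : 1 ≤ B (d + 1) m := Nat.one_le_pow _ _ (Nat.succ_pos m)

theorem B_le_succ (d m : ℕ) : B d m ≤ B (d + 1) m := by
  cases d with
  | zero => exact Nat.zero_le _
  | succ d =>
    change (m + 1) ^ d ≤ (m + 1) ^ (d + 1)
    exact Nat.pow_le_pow_right (Nat.succ_pos m) (Nat.le_succ d)

/-- Summation of bounded increments. -/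
theorem sum_bound (d : ℕ) (f : ℕ → ℕ → ℕ) (C : ℕ) (h1 : ∀ a b, f (a + 1) b ≤ f a b + C * B d (a + b))
    (h2 : ∀ a b, f a (b + 1) ≤ f a b + C * B d (a + b)) : ∃ C', ∀ a b, f a b ≤ C' * B (d + 1) (a + b) := by
  have key : ∀ a b, f a b ≤ f 0 0 + C * ((a + b) * B d (a + b)) := by
    intro a
    induction a with
    | zero =>
      intro b
      induction b with
      | zero => simp
      | succ b ih =>
        have h3 := h2 0 b
        have h4 : B d (0 + b) ≤ B d (0 + (b + 1)) := B_mono d (by omega)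
        have h5 : (0 + b) * B d (0 + b) ≤ (0 + b) * B d (0 + (b + 1)) := Nat.mul_le_mul_left _ h4
        calc f 0 (b + 1) ≤ f 0 0 + C * ((0 + b) * B d (0 + b)) + C * B d (0 + b) := h3.trans (Nat.add_le_add_right ih _)
          _ ≤ f 0 0 + C * ((0 + b) * B d (0 + (b + 1))) + C * B d (0 + (b + 1)) :=
            Nat.add_le_add (Nat.add_le_add_left (Nat.mul_le_mul_left _ h5) _) (Nat.mul_le_mul_left _ h4)
          _ = f 0 0 + C * ((0 + (b + 1)) * B d (0 + (b + 1))) := by ring
    | succ a ih =>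
      intro b
      have h3 := h1 a b
      have h4 : B d (a + b) ≤ B d (a + 1 + b) := B_mono d (by omega)
      have h5 : (a + b) * B d (a + b) ≤ (a + b) * B d (a + 1 + b) := Nat.mul_le_mul_left _ h4
      calc f (a + 1) b ≤ f 0 0 + C * ((a + b) * B d (a + b)) + C * B d (a + b) :=
            h3.trans (Nat.add_le_add_right (ih b) _)
        _ ≤ f 0 0 + C * ((a + b) * B d (a + 1 + b)) + C * B d (a + 1 + b) :=
          Nat.add_le_add (Nat.add_le_add_left (Nat.mul_le_mul_left _ h5) _) (Nat.mul_le_mul_left _ h4)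
        _ = f 0 0 + C * ((a + 1 + b) * B d (a + 1 + b)) := by ring
  refine ⟨f 0 0 + C, fun a b => (key a b).trans ?_⟩
  rw [add_mul (f 0 0)]
  refine Nat.add_le_add ?_ (Nat.mul_le_mul_left _ (mul_B_le d _))
  exact Nat.le_mul_of_pos_right _ (one_le_B d _)

variable {X : Scheme.{u}}

/-- `L^a ⊗ H^b`. -/
noncomputable def T (L H : X.Modules) (a b : ℕ) : X.Modules := CohB1.tensorMod (CohB1.tensorPow L a) (CohB1.tensorPow H b)

theorem isInvertible_T {L H : X.Modules} (hL : PicF.IsInvertible L) (hH : PicF.IsInvertible H) (a b : ℕ) :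
    PicF.IsInvertible (T L H a b) := isInvertible_tensorMod (isInvertible_tensorPow hL a) (isInvertible_tensorPow hH b)

theorem mc_T (L H : X.Modules) (a b : ℕ) : mc (T L H a b) = mc L ^ a * mc H ^ b := by
  rw [T, mc_tensor, mc_tensorPow, mc_tensorPow]

variable (k : Type u) [Field k] [X.Over (Spec (CommRingCat.of k))]

/-- `dim H^j(X, F ⊗ L^a ⊗ H^b)`. -/
noncomputable def h (L H : X.Modules) (a b j : ℕ) (F : X.Modules) : ℕ :=
  Module.finrank k (Coh.HH X (CohB1.tensorMod F (T L H a b)) j)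

/-- The previous degree. -/
noncomputable def h' (L H : X.Modules) (a b : ℕ) : ℕ → X.Modules → ℕ
  | 0, _ => 0
  | j + 1, F => h k L H a b j F

theorem h_congr (L H : X.Modules) (a b j : ℕ) {F G : X.Modules} (e : Nonempty (F ≅ G)) :
    h k L H a b j F = h k L H a b j G := by
  refine Pic13.H946.Core.finrank_congr k ?_ j
  rw [mc_tensor, mc_tensor, (mc_eq_iff F G).mpr e]

theorem h_step_left (L H : X.Modules) (a b j : ℕ) (F : X.Modules) :
    h k L H (a + 1) b j F = h k L H a b j (CohB1.tensorMod F L) := by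
  refine Pic13.H946.Core.finrank_congr k ?_ j
  rw [mc_tensor, mc_tensor, mc_tensor, mc_T, mc_T, pow_succ, mul_assoc, mul_assoc, mul_left_comm (mc L)]

theorem h_step_right (L H : X.Modules) (a b j : ℕ) (F : X.Modules) :
    h k L H a (b + 1) j F = h k L H a b j (CohB1.tensorMod F H) := by
  refine Pic13.H946.Core.finrank_congr k ?_ j
  rw [mc_tensor, mc_tensor, mc_tensor, mc_T, mc_T, pow_succ, mul_assoc, ← mul_assoc (mc L ^ a), mul_comm (mc H)]

variable [IsProper (X ↘ Spec (CommRingCat.of k))]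

theorem finite_tw {L H F : X.Modules} (hL : PicF.IsInvertible L) (hH : PicF.IsInvertible H) (hF : Coh.IsCoh F)
    (a b j : ℕ) : Module.Finite k (Coh.HH X (CohB1.tensorMod F (T L H a b)) j) :=
  Groth.Agent.S0002.result k X _ (TwistCoh.isCoh_tensor hF (isInvertible_T hL hH a b)) j

section SES

variable {L H : X.Modules} (hL : PicF.IsInvertible L) (hH : PicF.IsInvertible H) {S : ShortComplex X.Modules}
  (hS : S.ShortExact) (h1 : Coh.IsCoh S.X₁) (h2 : Coh.IsCoh S.X₂) (h3 : Coh.IsCoh S.X₃)

include hL hH hS h1 h2 h3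

theorem h_mid (a b j : ℕ) : h k L H a b j S.X₂ ≤ h k L H a b j S.X₁ + h k L H a b j S.X₃ := by
  have f1 : Module.Finite k (Coh.HH X (S.map (tw (T L H a b))).X₁ j) := finite_tw k hL hH h1 a b j
  have f2 : Module.Finite k (Coh.HH X (S.map (tw (T L H a b))).X₂ j) := finite_tw k hL hH h2 a b j
  have f3 : Module.Finite k (Coh.HH X (S.map (tw (T L H a b))).X₃ j) := finite_tw k hL hH h3 a b j
  have h4 := finrank_eq k _ (shortExact_tw (isInvertible_T hL hH a b) hS) j
  change Module.finrank k (Coh.HH X (S.map (tw (T L H a b))).X₂ j) ≤ _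
  rw [h4]
  exact Nat.add_le_add (LinearMap.finrank_range_le _) (Submodule.finrank_le _)

theorem h_right (a b j : ℕ) : h k L H a b j S.X₃ ≤ h k L H a b j S.X₂ + h k L H a b (j + 1) S.X₁ := by
  have f1 : Module.Finite k (Coh.HH X (S.map (tw (T L H a b))).X₁ (j + 1)) := finite_tw k hL hH h1 a b (j + 1)
  have f2 : Module.Finite k (Coh.HH X (S.map (tw (T L H a b))).X₂ j) := finite_tw k hL hH h2 a b j
  have f3 : Module.Finite k (Coh.HH X (S.map (tw (T L H a b))).X₃ j) := finite_tw k hL hH h3 a b j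
  have h4 := finrank_eq₃ k _ (shortExact_tw (isInvertible_T hL hH a b) hS) j
  change Module.finrank k (Coh.HH X (S.map (tw (T L H a b))).X₃ j) ≤ _
  rw [h4]
  exact Nat.add_le_add (LinearMap.finrank_range_le _) (Submodule.finrank_le _)

theorem h_left (a b j : ℕ) : h k L H a b j S.X₁ ≤ h k L H a b j S.X₂ + h' k L H a b j S.X₃ := by
  have f2 : Module.Finite k (Coh.HH X (S.map (tw (T L H a b))).X₂ j) := finite_tw k hL hH h2 a b j
  cases j with
  | zero =>
    have h4 := finrank_eq₀ k _ (shortExact_tw (isInvertible_T hL hH a b) hS)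
    change Module.finrank k (Coh.HH X (S.map (tw (T L H a b))).X₁ 0) ≤ _
    rw [h4]
    exact Submodule.finrank_le _
  | succ j =>
    have f1 : Module.Finite k (Coh.HH X (S.map (tw (T L H a b))).X₁ (j + 1)) := finite_tw k hL hH h1 a b (j + 1)
    have f3 : Module.Finite k (Coh.HH X (S.map (tw (T L H a b))).X₃ j) := finite_tw k hL hH h3 a b j
    have h4 := finrank_eq₁ k _ (shortExact_tw (isInvertible_T hL hH a b) hS) j
    change Module.finrank k (Coh.HH X (S.map (tw (T L H a b))).X₁ (j + 1)) ≤ _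
    rw [h4, add_comm]
    exact Nat.add_le_add (Submodule.finrank_le _) (LinearMap.finrank_range_le _)

end SES

/-- The growth bound. -/
def Bd (L H : X.Modules) (d : ℕ) (F : X.Modules) : Prop := ∀ j, ∃ C, ∀ a b, h k L H a b j F ≤ C * B d (a + b)

variable {k}

omit [IsProper (X ↘ Spec (CommRingCat.of k))] in
theorem bd' {L H F : X.Modules} {d : ℕ} (hF : Bd k L H d F) (j : ℕ) : ∃ C, ∀ a b, h' k L H a b j F ≤ C * B d (a + b) := by
  cases j with
  | zero => exact ⟨0, fun a b => Nat.zero_le _⟩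
  | succ j => exact hF j

omit [IsProper (X ↘ Spec (CommRingCat.of k))] in
theorem bd_zero {L H F : X.Modules} (hL : PicF.IsInvertible L) (hH : PicF.IsInvertible H) (d : ℕ) (hF : IsZero F) :
    Bd k L H d F := by
  intro j
  refine ⟨0, fun a b => ?_⟩
  rw [Nat.zero_mul, Nat.le_zero]
  have h1 : IsZero (CohB1.tensorMod F (T L H a b)) := by
    refine CohqB.DevSupport.isZero_of_support_eq_empty ?_
    rw [Pic13.H946.Core.support_tw (isInvertible_T hL hH a b)]
    exact CohqB.DevSupport.support_eq_empty_of_isZero hF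
  have h2 : Subsingleton (Coh.HH X (CohB1.tensorMod F (T L H a b)) j) := IntNum0.HH_subsingleton_of_isZero h1 j
  exact Module.finrank_zero_of_subsingleton

theorem bd_mid {L H : X.Modules} (hL : PicF.IsInvertible L) (hH : PicF.IsInvertible H) {S : ShortComplex X.Modules}
    (hS : S.ShortExact) (h1 : Coh.IsCoh S.X₁) (h2 : Coh.IsCoh S.X₂) (h3 : Coh.IsCoh S.X₃) {d : ℕ}
    (b1 : Bd k L H d S.X₁) (b3 : Bd k L H d S.X₃) : Bd k L H d S.X₂ := by
  intro j
  obtain ⟨C₁, hC₁⟩ := b1 j
  obtain ⟨C₃, hC₃⟩ := b3 j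
  refine ⟨C₁ + C₃, fun a b => (h_mid k hL hH hS h1 h2 h3 a b j).trans ?_⟩
  rw [add_mul]
  exact Nat.add_le_add (hC₁ a b) (hC₃ a b)

theorem bd_right {L H : X.Modules} (hL : PicF.IsInvertible L) (hH : PicF.IsInvertible H) {S : ShortComplex X.Modules}
    (hS : S.ShortExact) (h1 : Coh.IsCoh S.X₁) (h2 : Coh.IsCoh S.X₂) (h3 : Coh.IsCoh S.X₃) {d : ℕ}
    (b1 : Bd k L H d S.X₁) (b2 : Bd k L H d S.X₂) : Bd k L H d S.X₃ := by
  intro j
  obtain ⟨C₁, hC₁⟩ := b1 (j + 1)
  obtain ⟨C₂, hC₂⟩ := b2 j
  refine ⟨C₂ + C₁, fun a b => (h_right k hL hH hS h1 h2 h3 a b j).trans ?_⟩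
  rw [add_mul]
  exact Nat.add_le_add (hC₂ a b) (hC₁ a b)

theorem bd_left {L H : X.Modules} (hL : PicF.IsInvertible L) (hH : PicF.IsInvertible H) {S : ShortComplex X.Modules}
    (hS : S.ShortExact) (h1 : Coh.IsCoh S.X₁) (h2 : Coh.IsCoh S.X₂) (h3 : Coh.IsCoh S.X₃) {d : ℕ}
    (b2 : Bd k L H d S.X₂) (b3 : Bd k L H d S.X₃) : Bd k L H d S.X₁ := by
  intro j
  obtain ⟨C₂, hC₂⟩ := b2 j
  obtain ⟨C₃, hC₃⟩ := bd' b3 j
  refine ⟨C₂ + C₃, fun a b => (h_left k hL hH hS h1 h2 h3 a b j).trans ?_⟩
  rw [add_mul]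
  exact Nat.add_le_add (hC₂ a b) (hC₃ a b)

/-- Comparison through a morphism with small kernel and cokernel. -/
theorem bd_map [IsLocallyNoetherian X] {L H : X.Modules} (hL : PicF.IsInvertible L) (hH : PicF.IsInvertible H) {d : ℕ}
    {M N : X.Modules} (φ : M ⟶ N) (hM : Coh.IsCoh M) (hN : Coh.IsCoh N) (hk : Bd k L H d (kernel φ))
    (hc : Bd k L H d (cokernel φ)) (j : ℕ) :
    ∃ C, ∀ a b, h k L H a b j M ≤ h k L H a b j N + C * B d (a + b) ∧
      h k L H a b j N ≤ h k L H a b j M + C * B d (a + b) := by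
  have s1 := CohqB.DevSupport.shortExact_kernel_coimage φ
  have s2 := CohqB.DevSupport.shortExact_image_cokernel φ
  have ck : Coh.IsCoh (kernel φ) := Sga67.CohBasic.isCoh_kernel φ hM hN.1
  have cc : Coh.IsCoh (cokernel φ) := Sga67.CohBasic.isCoh_cokernel φ hM.1 hN
  have ci : Coh.IsCoh (kernel (cokernel.π φ)) := Sga67.CohBasic.isCoh_kernel _ hN cc.1
  have cci : Coh.IsCoh (cokernel (kernel.ι φ)) := Sga67.CohBasic.isCoh_cokernel _ ck.1 hM
  have e3 : ∀ a b, h k L H a b j (cokernel (kernel.ι φ)) = h k L H a b j (kernel (cokernel.π φ)) :=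
    fun a b => h_congr k L H a b j ⟨Abelian.coimageIsoImage φ⟩
  obtain ⟨C₁, hC₁⟩ := hk j
  obtain ⟨C₂, hC₂⟩ := bd' hc j
  obtain ⟨C₃, hC₃⟩ := hk (j + 1)
  obtain ⟨C₄, hC₄⟩ := hc j
  refine ⟨C₁ + C₂ + C₃ + C₄, fun a b => ⟨?_, ?_⟩⟩
  · have t1 := h_mid k hL hH s1 ck hM cci a b j
    have t2 := h_left k hL hH s2 ci hN cc a b j
    have t3 := hC₁ a b
    have t4 := hC₂ a b
    have t5 := e3 a b
    simp only at t1 t2
    simp only [add_mul]
    omega
  · have t1 := h_right k hL hH s1 ck hM cci a b j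
    have t2 := h_mid k hL hH s2 ci hN cc a b j
    have t3 := hC₃ a b
    have t4 := hC₄ a b
    have t5 := e3 a b
    simp only at t1 t2
    simp only [add_mul]
    omega

/-- **Growth of the cohomology of twists.** -/
theorem main [IsNoetherian X] {L H : X.Modules} (hL : PicF.IsInvertible L) (hH : PicF.IsInvertible H) (d : ℕ)
    (F : X.Modules) (hF : Coh.IsCoh F) (hd : topologicalKrullDim (CohB1.support F) < (d : WithBot ℕ∞)) :
    Bd k L H d F := by
  induction d generalizing F with
  | zero =>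
    have hemp : CohB1.support F = ∅ := by
      by_contra hne
      have : Nonempty (CohB1.support F) := (Set.nonempty_iff_ne_empty.mpr hne).to_subtype
      have h0 : (0 : WithBot ℕ∞) ≤ topologicalKrullDim (CohB1.support F) := by
        have : Nonempty (IrreducibleCloseds (CohB1.support F)) :=
          ⟨⟨closure {Classical.arbitrary _}, isIrreducible_singleton.closure, isClosed_closure⟩⟩
        exact Order.krullDim_nonneg
      exact absurd hd (not_lt.mpr (by exact_mod_cast h0))
    exact bd_zero hL hH 0 (CohqB.DevSupport.isZero_of_support_eq_empty hemp)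
  | succ d ih =>
    have hT : IsClosed (CohB1.support F) := Ega3B.Devissage.isClosed_support hF
    refine Ega3B.Devissage.devissage (CohB1.support F) hT (fun M => Bd k L H (d + 1) M) ?_ ?_ ?_ F hF subset_rfl
    · intro M hM
      exact bd_zero hL hH _ hM
    · intro S hS h1 h2 h3 _
      refine ⟨fun ha hb => ?_, fun ha hb => ?_, fun ha hb => ?_⟩
      · exact bd_right hL hH hS h1 h2 h3 ha hb
      · exact bd_mid hL hH hS h1 h2 h3 ha hb
      · exact bd_left hL hH hS h1 h2 h3 ha hb
    · intro y hy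
      obtain ⟨Z, i, hi, hZ, hgen, hrange⟩ := IntegralSub.exists_integral_closed y
      let G := (Coh.push i).obj (Coh.structureModule Z)
      have hG : Coh.IsCoh G := S0019.result i _ (Fdesc.StructMod.isCoh_structureModule _)
      have hGs : CohB1.support G ⊆ closure {y} :=
        (CohqB.DevSimple.support_push_subset_range i _).trans hrange.le
      have hsimple : IsSimpleModule (X.presheaf.stalk y) (G.presheaf.stalk y) := by
        have : Nonempty (⊤ : Z.Opens) := ⟨⟨genericPoint Z, trivial⟩⟩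
        have h := CohqB.DevSimple.isSimpleModule_stalk_push i (Coh.structureModule Z) ⊤
          ⟨Scheme.Modules.restrictUnitIso _⟩
        rw [hgen] at h
        exact h
      have hcl : closure {y} ⊆ CohB1.support F := closure_minimal (Set.singleton_subset_iff.mpr hy) hT
      have hdim : topologicalKrullDim (closure {y} : Set X) < ((d + 1 : ℕ) : WithBot ℕ∞) :=
        lt_of_le_of_lt (DimLt.topologicalKrullDim_mono hcl) hd
      refine ⟨G, hG, ?_, hGs, hsimple⟩
      have cmp : ∀ (W : X.Modules), PicF.IsInvertible W → ∀ j : ℕ, ∃ C, ∀ a b,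
          h k L H a b j (CohB1.tensorMod G W) ≤ h k L H a b j G + C * B d (a + b) := by
        intro W hW j
        obtain ⟨U, G', p, q, hyU, hG', hkp, hcp, hkq, hcq, hsG'⟩ := Compare.exists_compare hG hW y
        have hGL : Coh.IsCoh (CohB1.tensorMod G W) := TwistCoh.isCoh_tensor hG hW
        let V : Set X := closure {y} \ U
        have hVc : IsClosed V := isClosed_closure.sdiff U.isOpen
        have hV : topologicalKrullDim V < (d : WithBot ℕ∞) := by
          refine DimLt.topologicalKrullDim_lt isIrreducible_singleton.closure hVc Set.sdiff_subset ?_ hdim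
          intro h
          have : y ∈ V := by rw [h]; exact subset_closure rfl
          exact this.2 hyU
        have small : ∀ K : X.Modules, Coh.IsCoh K → CohB1.support K ⊆ closure {y} →
            (∀ z ∈ U, z ∉ CohB1.support K) → Bd k L H d K := by
          intro K hK h1 h2
          refine ih K hK (lt_of_le_of_lt (DimLt.topologicalKrullDim_mono ?_) hV)
          exact fun z hz => ⟨h1 hz, fun hzU => h2 z hzU hz⟩
        have s1 := small (kernel p) (Sga67.CohBasic.isCoh_kernel p hG' hG.1)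
          ((CohqB.DevSupport.support_subset_of_mono (kernel.ι p)).trans (hsG'.trans hGs)) hkp
        have s2 := small (cokernel p) (Sga67.CohBasic.isCoh_cokernel p hG'.1 hG)
          ((CohqB.DevSupport.support_subset_of_epi (cokernel.π p)).trans hGs) hcp
        have s3 := small (kernel q) (Sga67.CohBasic.isCoh_kernel q hG' hGL.1)
          ((CohqB.DevSupport.support_subset_of_mono (kernel.ι q)).trans (hsG'.trans hGs)) hkq
        have s4 := small (cokernel q) (Sga67.CohBasic.isCoh_cokernel q hG'.1 hGL)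
          ((CohqB.DevSupport.support_subset_of_epi (cokernel.π q)).trans
            ((TwistCoh.support_tensor_subset hW).trans hGs)) hcq
        obtain ⟨C₁, hC₁⟩ := bd_map hL hH p hG' hG s1 s2 j
        obtain ⟨C₂, hC₂⟩ := bd_map hL hH q hG' hGL s3 s4 j
        refine ⟨C₁ + C₂, fun a b => ?_⟩
        have t1 := (hC₁ a b).1
        have t2 := (hC₂ a b).2
        rw [add_mul]
        omega
      intro j
      obtain ⟨C₁, hC₁⟩ := cmp L hL j
      obtain ⟨C₂, hC₂⟩ := cmp H hH j
      refine sum_bound d (fun a b => h k L H a b j G) (C₁ + C₂) (fun a b => ?_) (fun a b => ?_)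
      · have t1 := hC₁ a b
        rw [h_step_left, add_mul]
        omega
      · have t1 := hC₂ a b
        rw [h_step_right, add_mul]
        omega

end K524.Growth
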