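import Groth.Agent.AbVar.K524.Quad
import Groth.Agent.AbSch.K450.RRChi

/-!
# Homogeneity of the Euler characteristic of classes

* `chi_pow`: `χ(c^n) = n^g χ(c)`.
* `exists_poly`: `n ↦ χ(c q^n)` is a polynomial; `chi_hom`: `χ(c^N q^n) = N^g Φ(n / N)`.
* `exists_idx_of_chi`, `hasIdx_pow`: existence of the index if `χ ≠ 0` and the index of powers, over any field.
-/

set_option autoImplicit false
universe u

open CategoryTheory CategoryTheory.Limits MonoidalCategory CartesianMonoidalCategory AlgebraicGeometry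
open scoped MonObj
open Groth.Agent Groth.Agent.Grpsch.PicGrp Groth.Agent.Grpsch.Cube K524.Kun K524.PicZeroVan K512.Slice K524.Index
open K524.Chi Groth.Agent.Fga.PicMon

namespace K524.HomChi

variable {k : Type u} [Field k] {X : Over (Spec (CommRingCat.of k))} [IsProper X.hom]

theorem chi_eq_euler {L : X.left.Modules} (hL : PicF.IsInvertible L) :
    chi (mk L hL) = @Curv2.euler k _ X.left ⟨X.hom⟩ L := chi_mk hL

theorem exists_poly {g : ℕ} (hg : topologicalKrullDim X.left = g) (c q : Pic X.left) :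
    ∃ Q : Polynomial ℚ, ∀ n : ℕ, (chi (c * q ^ n) : ℚ) = Q.eval (n : ℚ) := by
  obtain ⟨L, hL, rfl⟩ := exists_mk c
  obtain ⟨H, hH, rfl⟩ := exists_mk q
  let _ : X.left.Over (Spec (CommRingCat.of k)) := ⟨X.hom⟩
  have hp : IsProper (X.left ↘ (Spec (CommRingCat.of k))) := inferInstanceAs (IsProper X.hom)
  have hF : Coh.IsCoh (Coh.structureModule X.left) := CurvesC.UnitCoh.isCoh_unit _
  have hsupp : topologicalKrullDim (CohB1.support (Coh.structureModule X.left)) ≤ g :=
    (Topology.IsInducing.subtypeVal.topologicalKrullDim_le).trans hg.le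
  obtain ⟨P, hP, hP'⟩ := S3230.result k X.left g hg.le ![L, H] (by
    intro i
    fin_cases i
    · exact hL
    · exact hH) (Coh.structureModule X.left) hF g hsupp
  refine ⟨MvPolynomial.aeval ![(1 : Polynomial ℚ), Polynomial.X] P, fun n => ?_⟩
  have h1 := hP' ![1, n]
  have h2 : (Polynomial.evalRingHom (n : ℚ)) (MvPolynomial.aeval ![(1 : Polynomial ℚ), Polynomial.X] P) =
      MvPolynomial.eval (fun i => ((![1, n] : Fin 2 → ℕ) i : ℚ)) P := by
    rw [MvPolynomial.aeval_def, MvPolynomial.hom_eval₂]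
    have h6 : (Polynomial.evalRingHom (n : ℚ)).comp (algebraMap ℚ (Polynomial ℚ)) = RingHom.id ℚ :=
      RingHom.ext fun x => by simp
    rw [h6]
    change MvPolynomial.eval₂ (RingHom.id ℚ) _ P = MvPolynomial.eval₂ (RingHom.id ℚ) _ P
    congr 1
    funext i
    fin_cases i <;> simp
  rw [show Polynomial.eval (n : ℚ) (MvPolynomial.aeval ![(1 : Polynomial ℚ), Polynomial.X] P) = _ from h2]
  rw [← chiCl_mc, mc_multiTwist] at h1
  simp only [Fin.prod_univ_two, Matrix.cons_val_zero, Matrix.cons_val_one, Matrix.cons_val_fin_one, pow_one] at h1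
  rw [← h1, ← mk_tensorPow, mk_mul_mk, chi_eq_euler, ← K450.RRChi.chi_mc k X g hg, mc_tensor, mc_tensorPow]

/-- `χ(c^n) = n^g χ(c)`. -/
theorem chi_pow [GrpObj X] [GeometricallyIntegral X.hom] {g : ℕ} (hg : topologicalKrullDim X.left = g)
    (c : Pic X.left) (n : ℕ) : chi (c ^ n) = (n : ℤ) ^ g * chi c := by
  obtain ⟨L, hL, rfl⟩ := exists_mk c
  rw [← mk_tensorPow, chi_eq_euler, chi_eq_euler, ← K450.RRChi.chi_mc k X g hg, ← K450.RRChi.chi_mc k X g hg,
    mc_tensorPow]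
  exact K450.RRChi.chi_pow k X g hg L hL n

theorem eq_of_nat {P Q : Polynomial ℚ} (h : ∀ n : ℕ, P.eval (n : ℚ) = Q.eval (n : ℚ)) : P = Q := by
  refine Polynomial.eq_of_infinite_eval_eq P Q (Set.Infinite.mono (s := Set.range (Nat.cast : ℕ → ℚ)) ?_
    (Set.infinite_range_of_injective Nat.cast_injective))
  rintro _ ⟨n, rfl⟩
  exact h n

/-- `χ(c^N q^n) = N^g Φ(n / N)` where `Φ(n) = χ(c q^n)`. -/
theorem chi_hom [GrpObj X] [GeometricallyIntegral X.hom] {g : ℕ} (hg : topologicalKrullDim X.left = g)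
    (c q : Pic X.left) (Φ : Polynomial ℚ) (hΦ : ∀ n : ℕ, Φ.eval (n : ℚ) = (chi (c * q ^ n) : ℚ)) (N : ℕ) (hN : 1 ≤ N)
    (n : ℕ) : (chi (c ^ N * q ^ n) : ℚ) = (N : ℚ) ^ g * Φ.eval ((n : ℚ) / N) := by
  obtain ⟨Q, hQ⟩ := exists_poly hg (c ^ N) q
  have hN' : (N : ℚ) ≠ 0 := by exact_mod_cast (Nat.pos_iff_ne_zero.mp hN)
  have h1 : Q.comp (Polynomial.C (N : ℚ) * Polynomial.X) = Polynomial.C ((N : ℚ) ^ g) * Φ := by
    refine eq_of_nat fun m => ?_
    rw [Polynomial.eval_comp, Polynomial.eval_mul, Polynomial.eval_C, Polynomial.eval_X, Polynomial.eval_mul,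
      Polynomial.eval_C, hΦ, ← Nat.cast_mul, ← hQ, pow_mul', ← mul_pow, chi_pow hg]
    push_cast
    rfl
  have h2 := congrArg (Polynomial.eval ((n : ℚ) / N)) h1
  rw [Polynomial.eval_comp, Polynomial.eval_mul, Polynomial.eval_C, Polynomial.eval_X, Polynomial.eval_mul,
    Polynomial.eval_C, mul_div_cancel₀ _ hN', ← hQ] at h2
  exact h2

/-- Existence of the index when `χ ≠ 0`, over any field. -/
theorem exists_idx_of_chi [GrpObj X] [GeometricallyIntegral X.hom] {g : ℕ} (hg : topologicalKrullDim X.left = g)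
    (c : Pic X.left) (hc : chi c ≠ 0) : ∃ i ≤ g, HasIdx c i := by
  have hg' : topologicalKrullDim (K524.Bc.bc (AlgebraicClosure k) X).left = g :=
    (K524.Bc.dim_bc (AlgebraicClosure k) X).trans hg
  rw [← Bc.chi_bc (AlgebraicClosure k) c] at hc
  obtain ⟨i, hi, h1, -⟩ := (nd_of_chi hc).exists_idx g hg'
  exact ⟨i, hi, (Bc.hasIdx_bc_iff _ c i).mp h1⟩

/-- The index of a power, over any field. -/
theorem hasIdx_pow [GrpObj X] [GeometricallyIntegral X.hom] {c : Pic X.left} {i : ℕ} (h : HasIdx c i) {m : ℕ}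
    (hm : 0 < m) : HasIdx (c ^ m) i := by
  have a2 := K524.Quad.HasIdx_pow ((K524.Bc.hasIdx_bc_iff (AlgebraicClosure k) _ _).mpr h) hm
  rwa [← map_pow, K524.Bc.hasIdx_bc_iff] at a2

theorem le_of_hasIdx [GrpObj X] [GeometricallyIntegral X.hom] {g : ℕ} (hg : topologicalKrullDim X.left = g)
    {c : Pic X.left} {i : ℕ} (h : HasIdx c i) : i ≤ g := by
  obtain ⟨j, hj, h1⟩ := exists_idx_of_chi hg c (Bc.chi_ne_zero h)
  rwa [h.unique h1]

end K524.HomChi
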