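import Groth.Agent.AbVar.K524.Bc

/-!
# Local constancy of the index in a family

`isLocallyConstant`: `f : X ⟶ S` proper and flat, `F` invertible, the fibre cohomology of `F` over every point `s`
concentrated in one degree `idx s` and bounded above uniformly; then `idx` is locally constant.
-/

set_option autoImplicit false
universe u

open CategoryTheory CategoryTheory.Limits MonoidalCategory CartesianMonoidalCategory AlgebraicGeometry
open scoped MonObj
open Groth.Agent Groth.Agent.Grpsch.PicGrp Groth.Agent.Grpsch.Cube K524.Kun K524.PicZeroVan K512.Slice K524.Index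

namespace K524.Jump

/-- The cohomology of the fibres is finite dimensional. -/
theorem finite_fiberH {X S : Scheme.{u}} (f : X ⟶ S) [IsProper f] {F : X.Modules} (hF : PicF.IsInvertible F)
    (s : S) (n : ℕ) : Module.Finite (S.residueField s) (PerfAux.fiberH f F s n) := by
  let _ : (f.fiber s).Over (Spec (CommRingCat.of (S.residueField s))) := ⟨f.fiberToSpecResidueField s⟩
  have hp : IsProper (f.fiber s ↘ Spec (CommRingCat.of (S.residueField s))) := by
    change IsProper (pullback.snd f (S.fromSpecResidueField s))
    infer_instance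
  exact Groth.Agent.S0002.result (S.residueField s) (f.fiber s) _
    (Groth.Agent.S2329.isCoh_of_isInvertible (Fdesc.LocGen.isInvertible_pullback (f.fiberι s) hF)) n

theorem isLocallyConstant {X S : Scheme.{u}} (f : X ⟶ S) [IsProper f] [Flat f] [LocallyOfFinitePresentation f]
    {F : X.Modules} (hF : PicF.IsInvertible F) (N : ℕ) (hN : ∀ s j, N < j → Subsingleton (PerfAux.fiberH f F s j))
    (idx : S → ℕ) (h : ∀ s, (∀ j, j ≠ idx s → Subsingleton (PerfAux.fiberH f F s j)) ∧
      Nontrivial (PerfAux.fiberH f F s (idx s))) : IsLocallyConstant idx := by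
  rw [IsLocallyConstant.iff_eventually_eq]
  intro s
  have hFP : CohB1.IsFP F :=
    Desc.FinLocFreeSections.isFP_of_isFinLocFree (Grpsch.CubeClosed.isFinLocFree_of_isInvertible hF)
  have h1 : ∀ j ∈ Finset.range (N + 1), j ≠ idx s → ∀ᶠ y in nhds s, PerfAux.betti f F y j < 1 := by
    intro j _ hj
    refine (Groth.Agent.S1025.result f F hFP (Grpsch.CubeClosed.isFlatOver_of_isInvertible f hF) j 1).mem_nhds ?_
    have := (h s).1 j hj
    have h2 : PerfAux.betti f F s j = 0 := Module.finrank_zero_of_subsingleton
    change PerfAux.betti f F s j < 1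
    omega
  have h2 : ∀ᶠ y in nhds s, ∀ j ∈ Finset.range (N + 1), j ≠ idx s → PerfAux.betti f F y j < 1 := by
    rw [Filter.eventually_all_finset]
    intro j hj
    by_cases h3 : j = idx s
    · exact Filter.Eventually.of_forall fun _ h4 => absurd h3 h4
    · exact (h1 j hj h3).mono fun _ h4 _ => h4
  refine h2.mono fun y hy => ?_
  by_contra hne
  have h3 : idx y ≤ N := by
    by_contra h4
    have h5 := hN y (idx y) (not_le.mp h4)
    exact not_subsingleton_iff_nontrivial.mpr (h y).2 h5
  have h4 := hy (idx y) (Finset.mem_range.mpr (Nat.lt_succ_of_le h3)) hne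
  have h5 := finite_fiberH f hF y (idx y)
  have h6 := (h y).2
  have h7 : 0 < PerfAux.betti f F y (idx y) := by
    unfold PerfAux.betti
    exact @Module.finrank_pos _ _ _ _ _ _ h5 _ _ h6
  omega

end K524.Jump
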