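import Groth.Agent.S1842
import Groth.Agent.Etdl.H427.RankComp
import Mathlib.LinearAlgebra.FreeModule.PID
import Mathlib.LinearAlgebra.Matrix.Basis

/-!
# The endomorphisms of `X^r` given by integer matrices

* `mat α`: the endomorphism of `X^r` attached to an `r × r` integer matrix; `mat_mul`, `mat_one`.
* `exists_smith`: `α = Q D P` with `Q`, `P` invertible and `D` diagonal.
* `main`: `mat α` is finite flat of degree `|det α|^{2g}` on an abelian variety of dimension `g`, `det α ≠ 0`.
-/

set_option autoImplicit false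
universe u v

open CategoryTheory CategoryTheory.Limits MonoidalCategory CartesianMonoidalCategory MonObj AlgebraicGeometry

namespace K524.MatEnd

section Cat

variable {C : Type u} [Category.{v} C] [CartesianMonoidalCategory C] [BraidedCategory C] {X : C} [GrpObj X]
  [IsCommMonObj X]

/-- Precomposition is a homomorphism. -/
def pre {A B : C} (f : A ⟶ B) : (B ⟶ X) →* (A ⟶ X) where
  toFun g := f ≫ g
  map_one' := MonObj.comp_one f
  map_mul' g h := MonObj.comp_mul f g h

theorem pre_apply {A B : C} (f : A ⟶ B) (g : B ⟶ X) : pre f g = f ≫ g := rfl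

variable {r : ℕ} [HasProduct (fun _ : Fin r => X)]

variable (X) in
/-- The endomorphism attached to an integer matrix. -/
noncomputable def mat (α : Matrix (Fin r) (Fin r) ℤ) : (∏ᶜ fun _ : Fin r => X) ⟶ (∏ᶜ fun _ : Fin r => X) :=
  Pi.lift (fun i => ∏ j : Fin r, (Pi.π (fun _ : Fin r => X) j) ^ (α i j))

theorem mat_π (α : Matrix (Fin r) (Fin r) ℤ) (i : Fin r) :
    mat X α ≫ Pi.π (fun _ : Fin r => X) i = ∏ j : Fin r, (Pi.π (fun _ : Fin r => X) j) ^ (α i j) :=
  Pi.lift_π _ _

theorem comp_mat_π {A : C} (f : A ⟶ ∏ᶜ fun _ : Fin r => X) (α : Matrix (Fin r) (Fin r) ℤ) (i : Fin r) :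
    f ≫ mat X α ≫ Pi.π (fun _ : Fin r => X) i = ∏ j : Fin r, (f ≫ Pi.π (fun _ : Fin r => X) j) ^ (α i j) := by
  rw [mat_π, ← pre_apply, map_prod]
  exact Finset.prod_congr rfl fun j _ => by rw [map_zpow, pre_apply]

theorem mat_mul (α β : Matrix (Fin r) (Fin r) ℤ) : mat X β ≫ mat X α = mat X (α * β) := by
  refine Pi.hom_ext _ _ fun i => ?_
  rw [Category.assoc, comp_mat_π, mat_π]
  simp only [mat_π]
  apply Additive.ofMul.injective
  simp only [ofMul_prod, ofMul_zpow, Matrix.mul_apply, Finset.sum_smul, Finset.smul_sum, smul_smul]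
  rw [Finset.sum_comm]

theorem mat_one : mat X (1 : Matrix (Fin r) (Fin r) ℤ) = 𝟙 _ := by
  refine Pi.hom_ext _ _ fun i => ?_
  rw [mat_π, Category.id_comp, Finset.prod_eq_single i]
  · rw [Matrix.one_apply_eq, zpow_one]
  · intro j _ hj
    rw [Matrix.one_apply_ne (Ne.symm hj), zpow_zero]
  · intro h
    exact absurd (Finset.mem_univ i) h

/-- The matrix with one diagonal entry `d` and all others `1`. -/
def one1 (i : Fin r) (d : ℤ) : Matrix (Fin r) (Fin r) ℤ := Matrix.diagonal (Function.update 1 i d)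

theorem mat_diagonal_π (a : Fin r → ℤ) (i : Fin r) :
    mat X (Matrix.diagonal a) ≫ Pi.π (fun _ : Fin r => X) i = (Pi.π (fun _ : Fin r => X) i) ^ a i := by
  rw [mat_π, Finset.prod_eq_single i]
  · rw [Matrix.diagonal_apply_eq]
  · intro j _ hj
    rw [Matrix.diagonal_apply_ne _ (Ne.symm hj), zpow_zero]
  · intro h
    exact absurd (Finset.mem_univ i) h

theorem comp_mat_diagonal_π {A : C} (f : A ⟶ ∏ᶜ fun _ : Fin r => X) (a : Fin r → ℤ) (i : Fin r) :
    f ≫ mat X (Matrix.diagonal a) ≫ Pi.π (fun _ : Fin r => X) i = (f ≫ Pi.π (fun _ : Fin r => X) i) ^ a i := by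
  rw [mat_diagonal_π, ← pre_apply, map_zpow, pre_apply]

theorem isPullback_one1 (i : Fin r) (d : ℤ) :
    IsPullback (Pi.π (fun _ : Fin r => X) i) (mat X (one1 i d)) (𝟙 X ^ d) (Pi.π (fun _ : Fin r => X) i) := by
  have hw : Pi.π (fun _ : Fin r => X) i ≫ (𝟙 X ^ d) = mat X (one1 i d) ≫ Pi.π (fun _ : Fin r => X) i := by
    rw [one1, mat_diagonal_π, Function.update_self, ← pre_apply, map_zpow, pre_apply, Category.comp_id]
  refine ⟨⟨hw⟩, ⟨PullbackCone.IsLimit.mk _ (fun s => Pi.lift (Function.update (fun j => s.snd ≫ Pi.π _ j) i s.fst))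
    (fun s => ?_) (fun s => ?_) (fun s m h1 h2 => ?_)⟩⟩
  · rw [Pi.lift_π, Function.update_self]
  · refine Pi.hom_ext _ _ fun j => ?_
    rw [Category.assoc, one1, comp_mat_diagonal_π, Pi.lift_π]
    by_cases hj : j = i
    · subst hj
      have h3 := s.condition
      rw [← pre_apply, map_zpow, pre_apply, Category.comp_id] at h3
      rw [Function.update_self, Function.update_self, h3]
    · rw [Function.update_of_ne hj, Function.update_of_ne hj, Pi.one_apply, zpow_one]
  · refine Pi.hom_ext _ _ fun j => ?_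
    rw [Pi.lift_π]
    by_cases hj : j = i
    · subst hj
      rw [Function.update_self, h1]
    · rw [Function.update_of_ne hj, ← h2, Category.assoc, one1, comp_mat_diagonal_π, Function.update_of_ne hj,
        Pi.one_apply, zpow_one]

end Cat

/-- Smith normal form of a nondegenerate integer matrix. -/
theorem exists_smith {r : ℕ} (α : Matrix (Fin r) (Fin r) ℤ) (hα : α.det ≠ 0) :
    ∃ (Q Q' P P' : Matrix (Fin r) (Fin r) ℤ) (a : Fin r → ℤ), Q * Q' = 1 ∧ Q' * Q = 1 ∧ P * P' = 1 ∧ P' * P = 1 ∧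
      α = Q * Matrix.diagonal a * P := by
  let f := Matrix.toLin' α
  have hinj : Function.Injective f := by
    rw [← LinearMap.ker_eq_bot]
    refine Matrix.ker_toLin'_eq_bot_iff.mpr fun v hv => ?_
    exact Matrix.eq_zero_of_mulVec_eq_zero hα hv
  let e := LinearEquiv.ofInjective f hinj
  let std := Pi.basisFun ℤ (Fin r)
  obtain ⟨b', a, ab', hab⟩ := Submodule.exists_smith_normal_form_of_rank_eq std (N := LinearMap.range f)
    e.finrank_eq.symm
  let c := ab'.map e.symm
  have h1 : LinearMap.toMatrix c b' f = Matrix.diagonal a := by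
    ext i j
    rw [LinearMap.toMatrix_apply]
    have h2 : f (c j) = a j • b' j := by
      have h3 : (e (c j) : Fin r → ℤ) = f (c j) := rfl
      rw [← h3, Module.Basis.map_apply, LinearEquiv.apply_symm_apply, hab]
    rw [h2, map_smul, Module.Basis.repr_self]
    by_cases hij : i = j
    · subst hij
      simp
    · simp [Matrix.diagonal_apply_ne _ hij, Finsupp.single_apply, Ne.symm hij]
  refine ⟨std.toMatrix b', b'.toMatrix std, c.toMatrix std, std.toMatrix c, a,
    std.toMatrix_mul_toMatrix_flip b', b'.toMatrix_mul_toMatrix_flip std, c.toMatrix_mul_toMatrix_flip std,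
    std.toMatrix_mul_toMatrix_flip c, ?_⟩
  rw [← h1, basis_toMatrix_mul_linearMap_toMatrix_mul_basis_toMatrix]
  exact (LinearMap.toMatrix'_toLin' α).symm

/-- Finite flat of constant degree. -/
def FF {X Y : Scheme.{u}} (f : X ⟶ Y) (n : ℕ) : Prop := IsFinite f ∧ Flat f ∧ ∀ y, f.finrank y = n

theorem FF.comp {X Y Z : Scheme.{u}} {f : X ⟶ Y} {g : Y ⟶ Z} {m n : ℕ} (hf : FF f m) (hg : FF g n) :
    FF (f ≫ g) (m * n) := by
  obtain ⟨h1, h2, h3⟩ := hf
  obtain ⟨h4, h5, h6⟩ := hg
  refine ⟨inferInstance, inferInstance, fun z => ?_⟩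
  rw [Groth.Agent.Etdl.H427.RankComp.finrank_comp f g m h3, h6]

theorem FF.of_isIso {X Y : Scheme.{u}} (f : X ⟶ Y) [IsIso f] : FF f 1 :=
  ⟨inferInstance, inferInstance, fun y => by rw [Scheme.Hom.finrank_eq_one_of_isIso, Pi.one_apply]⟩

theorem FF.of_isPullback {P X Y Z : Scheme.{u}} {fst : P ⟶ X} {snd : P ⟶ Y} {f : X ⟶ Z} {g : Y ⟶ Z}
    (h : IsPullback fst snd f g) {n : ℕ} (hf : FF f n) : FF snd n := by
  obtain ⟨h1, h2, h3⟩ := hf
  refine ⟨MorphismProperty.of_isPullback h h1, MorphismProperty.of_isPullback h h2, fun y => ?_⟩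
  rw [Scheme.Hom.finrank_of_isPullback fst snd f g h, h3]

section Geom

variable {k : Type u} [Field k] {X : Over (Spec (CommRingCat.of k))} [GrpObj X] [IsCommMonObj X] [IsProper X.hom]
  [GeometricallyIntegral X.hom] {r : ℕ}

theorem ff_one1 (g : ℕ) (hg : topologicalKrullDim X.left = g) (i : Fin r) (d : ℤ) (hd : d ≠ 0) :
    FF (mat X (one1 i d)).left (d.natAbs ^ (2 * g)) :=
  FF.of_isPullback ((isPullback_one1 (X := X) i d).map (Over.forget _)) (Groth.Agent.S1842.result k X g hg d hd)

theorem ff_diag (g : ℕ) (hg : topologicalKrullDim X.left = g) (a : Fin r → ℤ) (ha : ∀ i, a i ≠ 0) (s : Finset (Fin r)) :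
    FF (mat X (Matrix.diagonal fun i => if i ∈ s then a i else 1)).left (∏ i ∈ s, (a i).natAbs ^ (2 * g)) := by
  classical
  induction s using Finset.induction_on with
  | empty =>
    have h1 : (Matrix.diagonal fun i : Fin r => if i ∈ (∅ : Finset (Fin r)) then a i else 1) = 1 := by
      simp only [Finset.notMem_empty, if_false]
      exact Matrix.diagonal_one
    rw [h1, mat_one, Finset.prod_empty]
    exact @FF.of_isIso _ _ _ (inferInstanceAs (IsIso ((Over.forget _).map (𝟙 (∏ᶜ fun _ : Fin r => X)))))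
  | insert i s hi ih =>
    have h1 : (Matrix.diagonal fun j : Fin r => if j ∈ insert i s then a j else 1) =
        (Matrix.diagonal fun j : Fin r => if j ∈ s then a j else 1) * one1 i (a i) := by
      rw [one1, Matrix.diagonal_mul_diagonal]
      congr 1
      funext j
      by_cases hj : j = i
      · subst hj
        simp [hi]
      · simp [Finset.mem_insert, hj, Function.update_of_ne hj]
    rw [h1, ← mat_mul, Over.comp_left, Finset.prod_insert hi]
    exact (ff_one1 g hg i (a i) (ha i)).comp ih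

theorem isIso_mat {Q Q' : Matrix (Fin r) (Fin r) ℤ} (h : Q * Q' = 1) (h' : Q' * Q = 1) : IsIso (mat X Q).left := by
  have : IsIso (mat X Q) := ⟨mat X Q', by rw [mat_mul, h', mat_one], by rw [mat_mul, h, mat_one]⟩
  exact inferInstanceAs (IsIso ((Over.forget _).map (mat X Q)))

theorem natAbs_det_eq_one {Q Q' : Matrix (Fin r) (Fin r) ℤ} (h : Q * Q' = 1) : Q.det.natAbs = 1 := by
  have h1 : Q.det * Q'.det = 1 := by rw [← Matrix.det_mul, h, Matrix.det_one]
  exact Int.isUnit_iff_natAbs_eq.mp (IsUnit.of_mul_eq_one _ h1)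

/-- `mat α` is finite flat of degree `|det α|^{2g}`. -/
theorem main (g : ℕ) (hg : topologicalKrullDim X.left = g) (α : Matrix (Fin r) (Fin r) ℤ) (hα : α.det ≠ 0) :
    FF (mat X α).left (α.det.natAbs ^ (2 * g)) := by
  obtain ⟨Q, Q', P, P', a, hQ, hQ', hP, hP', rfl⟩ := exists_smith α hα
  rw [Matrix.det_mul, Matrix.det_mul, Matrix.det_diagonal] at hα ⊢
  have ha : ∀ i, a i ≠ 0 := by
    intro i hi
    refine hα ?_
    rw [Finset.prod_eq_zero (Finset.mem_univ i) hi, mul_zero, zero_mul]
  have i1 := isIso_mat (X := X) hQ hQ'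
  have i2 := isIso_mat (X := X) hP hP'
  have h1 := ff_diag g hg a ha Finset.univ
  simp only [Finset.mem_univ, if_true] at h1
  have h2 := (FF.of_isIso (mat X P).left).comp (h1.comp (FF.of_isIso (mat X Q).left))
  rw [← Over.comp_left, ← Over.comp_left, mat_mul, mat_mul, _root_.one_mul, _root_.mul_one,
    Finset.prod_pow] at h2
  rw [Int.natAbs_mul, Int.natAbs_mul, natAbs_det_eq_one hQ, natAbs_det_eq_one hP,
    _root_.one_mul, _root_.mul_one]
  let ν : ℤ →* ℕ := { toFun := Int.natAbs, map_one' := rfl, map_mul' := Int.natAbs_mul }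
  rwa [show (∏ i, a i).natAbs = ∏ i, (a i).natAbs from map_prod ν a Finset.univ]

end Geom

end K524.MatEnd
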