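import Groth.Agent.S0034
import Groth.Agent.S1026
import Groth.Agent.PerfB.Semi
import Groth.Agent.CurvesA.HHMap
import Groth.Agent.AbVar.K524.Kun

/-!
# Dimensions of cohomology and base change

* `finrank_eq_betti`: over a field `H^i(X, F)` and the cohomology of the fibre over the point have the same dimension;
* `finrank_baseChange`: invariance of the dimension of cohomology under field extensions;
* `euler_eq_eulerChar`, `euler_baseChange`: the same for Euler characteristics.
-/

set_option autoImplicit false
universe u

open CategoryTheory CategoryTheory.Limits MonoidalCategory CartesianMonoidalCategory AlgebraicGeometry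
open Groth.Agent Groth.Agent.Grpsch.PicGrp K524.Kun

namespace K524.Num

theorem finrank_baseChange (k : Type u) [Field k] (X : Scheme.{u}) [X.Over (Spec (CommRingCat.of k))]
    [QuasiCompact (X ↘ Spec (CommRingCat.of k))] [QuasiSeparated (X ↘ Spec (CommRingCat.of k))]
    (k' : Type u) [Field k'] [Algebra k k'] (X' : Scheme.{u}) [X'.Over (Spec (CommRingCat.of k'))]
    (g : X' ⟶ X)
    (hpb : IsPullback g (X' ↘ Spec (CommRingCat.of k')) (X ↘ Spec (CommRingCat.of k))
      (Spec.map (CommRingCat.ofHom (algebraMap k k')))) (F : X.Modules) (hF : Coh.IsQCoh F) (i : ℕ) :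
    Module.finrank k' (Coh.HH X' ((Scheme.Modules.pullback g).obj F) i) =
        Module.finrank k (Coh.HH X F i) := by
  have : CompactSpace X :=
    (quasiCompact_iff_compactSpace (f := X ↘ Spec (CommRingCat.of k))).mp inferInstance
  have : QuasiSeparatedSpace X :=
    (quasiSeparated_iff_quasiSeparatedSpace (f := X ↘ Spec (CommRingCat.of k))).mp inferInstance
  obtain ⟨e⟩ := Groth.Agent.S0034.result k k' X X' g hpb F i
  rw [← Module.finrank_baseChange (R := k') (M' := Coh.HH X F i)]
  exact e.finrank_eq.symm

/-- The action of the residue field on the cohomology of the fibre over the point of `Spec k`. -/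
theorem finrank_eq_betti (k : Type u) [Field k] {X : Scheme.{u}}
    [X.Over (Spec (CommRingCat.of k))] [QuasiCompact (X ↘ Spec (CommRingCat.of k))]
    [QuasiSeparated (X ↘ Spec (CommRingCat.of k))]
    (x : ↥(Spec (CommRingCat.of k))) (F : X.Modules) (hF : Coh.IsQCoh F) (i : ℕ) :
    PerfAux.betti (X ↘ Spec (CommRingCat.of k)) F x i = Module.finrank k (Coh.HH X F i) := by
  let f := X ↘ Spec (CommRingCat.of k)
  let S := Spec (CommRingCat.of k)
  let a : CommRingCat.of k ⟶ S.residueField x := Spec.preimage (S.fromSpecResidueField x)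
  let : Algebra k (S.residueField x) := a.hom.toAlgebra
  let : (f.fiber x).Over (Spec (CommRingCat.of (S.residueField x))) :=
    ⟨f.fiberToSpecResidueField x⟩
  have ha : Spec.map (CommRingCat.ofHom (algebraMap k (S.residueField x))) =
      S.fromSpecResidueField x := Spec.map_preimage _
  have hpb : IsPullback (f.fiberι x) (f.fiber x ↘ Spec (CommRingCat.of (S.residueField x)))
      (X ↘ Spec (CommRingCat.of k))
      (Spec.map (CommRingCat.ofHom (algebraMap k (S.residueField x)))) := by
    rw [ha]
    exact IsPullback.of_hasPullback _ _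
  rw [← finrank_baseChange k X (S.residueField x) (f.fiber x) (f.fiberι x) hpb F hF i]
  rfl

theorem euler_eq_eulerChar (k : Type u) [Field k] {X : Scheme.{u}}
    [X.Over (Spec (CommRingCat.of k))] [QuasiCompact (X ↘ Spec (CommRingCat.of k))]
    [QuasiSeparated (X ↘ Spec (CommRingCat.of k))]
    (x : ↥(Spec (CommRingCat.of k))) (F : X.Modules) (hF : Coh.IsQCoh F) :
    PerfAux.eulerChar (X ↘ Spec (CommRingCat.of k)) F x = Curv2.euler k X F :=
  finsum_congr fun i => by rw [finrank_eq_betti k x F hF i]

theorem euler_baseChange (k : Type u) [Field k] (X : Scheme.{u}) [X.Over (Spec (CommRingCat.of k))]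
    [QuasiCompact (X ↘ Spec (CommRingCat.of k))] [QuasiSeparated (X ↘ Spec (CommRingCat.of k))]
    (k' : Type u) [Field k'] [Algebra k k'] (X' : Scheme.{u}) [X'.Over (Spec (CommRingCat.of k'))]
    (g : X' ⟶ X)
    (hpb : IsPullback g (X' ↘ Spec (CommRingCat.of k')) (X ↘ Spec (CommRingCat.of k))
      (Spec.map (CommRingCat.ofHom (algebraMap k k')))) (F : X.Modules) (hF : Coh.IsQCoh F) :
    Curv2.euler k' X' ((Scheme.Modules.pullback g).obj F) = Curv2.euler k X F :=
  finsum_congr fun i => by rw [finrank_baseChange k X k' X' g hpb F hF i]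

theorem subsingleton_baseChange_iff (k : Type u) [Field k] (X : Scheme.{u}) [X.Over (Spec (CommRingCat.of k))]
    [QuasiCompact (X ↘ Spec (CommRingCat.of k))] [QuasiSeparated (X ↘ Spec (CommRingCat.of k))]
    (k' : Type u) [Field k'] [Algebra k k'] (X' : Scheme.{u}) [X'.Over (Spec (CommRingCat.of k'))]
    (g : X' ⟶ X)
    (hpb : IsPullback g (X' ↘ Spec (CommRingCat.of k')) (X ↘ Spec (CommRingCat.of k))
      (Spec.map (CommRingCat.ofHom (algebraMap k k')))) (F : X.Modules) (hF : Coh.IsQCoh F) (i : ℕ) :
    Subsingleton (Coh.HH X' ((Scheme.Modules.pullback g).obj F) i) ↔ Subsingleton (Coh.HH X F i) := by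
  have : CompactSpace X :=
    (quasiCompact_iff_compactSpace (f := X ↘ Spec (CommRingCat.of k))).mp inferInstance
  have : QuasiSeparatedSpace X :=
    (quasiSeparated_iff_quasiSeparatedSpace (f := X ↘ Spec (CommRingCat.of k))).mp inferInstance
  obtain ⟨e⟩ := Groth.Agent.S0034.result k k' X X' g hpb F i
  rw [← e.toEquiv.subsingleton_congr, subsingleton_tensor_iff]
  constructor
  · rintro (h | h)
    · exact absurd h (not_subsingleton k')
    · exact h
  · exact Or.inr

end K524.Num
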