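import Groth.Agent.AbVar.K524.HomChi
import Groth.Agent.AbVar.K524.Cuts

/-!
# The index and the roots of the characteristic polynomial

`X` an abelian variety, `c` a class, `q` the class of an ample module, `Φ(n) = χ(c q^n)`.

* `exists_root`: if the indices of `c` and `c q` differ, `Φ` has a real root in `[0, 1]`.
-/

set_option autoImplicit false
universe u

open CategoryTheory CategoryTheory.Limits MonoidalCategory CartesianMonoidalCategory AlgebraicGeometry
open scoped MonObj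
open Groth.Agent Groth.Agent.Grpsch.PicGrp Groth.Agent.Grpsch.Cube K524.Kun K524.PicZeroVan K512.Slice K524.Index
open K524.Chi Groth.Agent.Fga.PicMon K524.Growth

namespace K524.Root

theorem absurd_growth (g : ℕ) (hg : 1 ≤ g) (c C : ℝ) (hc : 0 < c)
    (h : ∀ N₀ : ℕ, ∃ N : ℕ, N₀ ≤ N ∧ c * (N : ℝ) ^ g ≤ C * (N : ℝ) ^ (g - 1)) : False := by
  obtain ⟨N₀, hN₀⟩ := exists_nat_gt (C / c)
  obtain ⟨N, hN, hle⟩ := h (N₀ + 1)
  obtain ⟨g, rfl⟩ : ∃ g', g = g' + 1 := ⟨g - 1, by omega⟩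
  have hNpos : (0 : ℝ) < N := by
    have : 0 < N := by omega
    exact_mod_cast this
  rw [Nat.add_sub_cancel, pow_succ, ← mul_assoc, mul_comm _ (N : ℝ), ← mul_assoc] at hle
  have h1 := le_of_mul_le_mul_right hle (pow_pos hNpos g)
  rw [div_lt_iff₀ hc] at hN₀
  have h2 : (N₀ : ℝ) ≤ N := by
    have : N₀ ≤ N := by omega
    exact_mod_cast this
  have h3 := mul_le_mul_of_nonneg_right h2 hc.le
  linarith

/-- `X` as a scheme over `Spec k`. -/
noncomputable abbrev ov {k : Type u} [Field k] (X : Over (Spec (CommRingCat.of k))) : X.left.Over (Spec (CommRingCat.of k)) := ⟨X.hom⟩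

attribute [local instance] ov

variable {k : Type u} [Field k] {X : Over (Spec (CommRingCat.of k))} [IsProper X.hom]

omit [IsProper X.hom] in
theorem mk_T {L H : X.left.Modules} (hL : PicF.IsInvertible L) (hH : PicF.IsInvertible H) (a b : ℕ) :
    mk (T L H a b) (isInvertible_T hL hH a b) = mk L hL ^ a * mk H hH ^ b := by
  rw [← mk_tensorPow, ← mk_tensorPow, mk_mul_mk]
  rfl

theorem isProper_ov : IsProper (X.left ↘ (Spec (CommRingCat.of k))) := inferInstanceAs (IsProper X.hom)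

omit [IsProper X.hom] in
theorem hO_eq {L H : X.left.Modules} (a b j : ℕ) :
    h k L H a b j (Coh.structureModule X.left) = Module.finrank k (Coh.HH X.left (T L H a b) j) := by
  refine Pic13.H946.Core.finrank_congr k ?_ j
  rw [mc_tensor, mc_one, one_mul]

theorem hO_eq_zero {L H : X.left.Modules} (hL : PicF.IsInvertible L) (hH : PicF.IsInvertible H) (a b j : ℕ)
    (hv : Van (mk L hL ^ a * mk H hH ^ b) j) : h k L H a b j (Coh.structureModule X.left) = 0 := by
  rw [← mk_T, van_mk] at hv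
  rw [hO_eq]
  exact Module.finrank_zero_of_subsingleton

theorem abs_chi {L H : X.left.Modules} (hL : PicF.IsInvertible L) (hH : PicF.IsInvertible H) (a b j : ℕ)
    (hi : HasIdx (mk L hL ^ a * mk H hH ^ b) j) :
    |chi (mk L hL ^ a * mk H hH ^ b)| = h k L H a b j (Coh.structureModule X.left) := by
  rw [← mk_T] at hi ⊢
  rw [Bc.chi_eq _ hi, abs_mul, abs_pow, abs_neg, abs_one, one_pow, one_mul, hO_eq, Nat.abs_cast]

/-- `χ(c^N q^n) = N^g Φ(n / N)` with real values. -/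
theorem chi_real [GrpObj X] [GeometricallyIntegral X.hom] {g : ℕ} (hg : topologicalKrullDim X.left = g)
    (c q : Pic X.left) (Φ : Polynomial ℚ) (hΦ : ∀ n : ℕ, Φ.eval (n : ℚ) = (chi (c * q ^ n) : ℚ)) (N : ℕ) (hN : 1 ≤ N)
    (n : ℕ) : (chi (c ^ N * q ^ n) : ℝ) = (N : ℝ) ^ g * (Φ.map (algebraMap ℚ ℝ)).eval ((n : ℝ) / N) := by
  have h1 := congrArg (algebraMap ℚ ℝ) (HomChi.chi_hom hg c q Φ hΦ N hN n)
  rw [map_mul, ← Polynomial.eval₂_at_apply, ← Polynomial.eval_map] at h1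
  simpa using h1

theorem exists_jump (w : ℕ → ℕ) (N : ℕ) (h : w 0 ≠ w N) : ∃ t < N, w t ≠ w (t + 1) := by
  by_contra hc
  push Not at hc
  have key : ∀ t ≤ N, w 0 = w t := by
    intro t
    induction t with
    | zero => intro _; rfl
    | succ t ih => intro ht; rw [ih (by omega)]; exact hc t (by omega)
  exact h (key N le_rfl)

theorem dim_support_unit {g : ℕ} (hg : topologicalKrullDim X.left = g) :
    topologicalKrullDim (CohB1.support (Coh.structureModule X.left)) = g := by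
  rw [Pic13.H946.Growth.support_unit, ← hg]
  exact (Homeomorph.Set.univ X.left).isHomeomorph.topologicalKrullDim_eq

/-- If the indices of `L` and `L ⊗ H` differ, `H` ample, then `Φ` has a real root in `[0, 1]`. -/
theorem exists_root [GrpObj X] [GeometricallyIntegral X.hom] {g : ℕ} (hg : topologicalKrullDim X.left = g)
    {L H : X.left.Modules} (hL : PicF.IsInvertible L) (hH : CohB1.IsAmple H) {i i' : ℕ} (h1 : HasIdx (mk L hL) i)
    (h2 : HasIdx (mk L hL * mk H hH.1) i') (hne : i ≠ i') (Φ : Polynomial ℚ)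
    (hΦ : ∀ n : ℕ, Φ.eval (n : ℚ) = (chi (mk L hL * mk H hH.1 ^ n) : ℚ)) :
    ∃ t : ℝ, 0 ≤ t ∧ t ≤ 1 ∧ (Φ.map (algebraMap ℚ ℝ)).eval t = 0 := by
  by_contra hroot
  push Not at hroot
  set c := mk L hL with hc
  set q := mk H hH.1 with hq
  set P := Φ.map (algebraMap ℚ ℝ) with hP
  have hg1 : 1 ≤ g := by
    have a1 := HomChi.le_of_hasIdx hg h1
    have a2 := HomChi.le_of_hasIdx hg h2
    omega
  -- the minimum
  obtain ⟨t₀, ht₀, hmin⟩ := isCompact_Icc.exists_isMinOn (Set.nonempty_Icc.mpr (zero_le_one (α := ℝ)))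
    (f := fun t : ℝ => |P.eval t|) (P.continuous.abs.continuousOn)
  set c₀ : ℝ := |P.eval t₀| with hc₀
  have hc₀pos : 0 < c₀ := abs_pos.mpr (hroot t₀ ht₀.1 ht₀.2)
  have hbd : ∀ t : ℝ, 0 ≤ t → t ≤ 1 → c₀ ≤ |P.eval t| := fun t h3 h4 => hmin ⟨h3, h4⟩
  -- the cut
  have hp : IsProper (X.left ↘ (Spec (CommRingCat.of k))) := isProper_ov
  have hN : IsNoetherian X.left := Fga.HypSec.isNoetherian k X.left
  have hcO : Coh.IsCoh (Coh.structureModule X.left) := Fdesc.StructMod.isCoh_structureModule _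
  obtain ⟨m, Q, hm, hQ, hQdim, hcut⟩ := Cuts.exists_cut k hL hH (Coh.structureModule X.left) hcO (g - 1) (by
    rw [dim_support_unit hg, Nat.sub_add_cancel hg1])
  have hgrow := Growth.main (k := k) hL hH.1 g Q hQ (by
    rw [hQdim]
    exact_mod_cast (by omega : g - 1 < g))
  choose Cj hCj using hgrow
  let C : ℕ := ∑ j ∈ Finset.range (g + 1), Cj j
  have hC : ∀ j ≤ g, Cj j ≤ C := fun j hj =>
    Finset.single_le_sum (f := Cj) (fun _ _ => Nat.zero_le _) (Finset.mem_range.mpr (Nat.lt_succ_of_le hj))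
  refine absurd_growth g hg1 c₀ (C * 3 ^ (g - 1)) hc₀pos fun N₀ => ?_
  set N := m * (N₀ + 1) with hNdef
  have hN₀ : N₀ + 1 ≤ N := Nat.le_mul_of_pos_left _ hm
  have hN1 : 1 ≤ N := by omega
  have hNpos : (0 : ℝ) < N := by exact_mod_cast hN1
  have hlow : ∀ n : ℕ, n ≤ N → (N : ℝ) ^ g * c₀ ≤ |(chi (c ^ N * q ^ n) : ℝ)| := by
    intro n hn
    rw [chi_real hg c q Φ hΦ N hN1, abs_mul, abs_of_nonneg (pow_nonneg hNpos.le g)]
    refine mul_le_mul_of_nonneg_left (hbd _ (by positivity) ?_) (pow_nonneg hNpos.le g)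
    rw [div_le_one hNpos]
    exact_mod_cast hn
  have hidx : ∀ t : ℕ, t ≤ N₀ + 1 → ∃ j, j ≤ g ∧ HasIdx (c ^ N * q ^ (m * t)) j := by
    intro t ht
    have h3 : chi (c ^ N * q ^ (m * t)) ≠ 0 := by
      intro h0
      have h4 := hlow (m * t) (Nat.mul_le_mul_left m ht)
      rw [h0] at h4
      simp only [Int.cast_zero, abs_zero] at h4
      have h5 : 0 < (N : ℝ) ^ g * c₀ := mul_pos (pow_pos hNpos g) hc₀pos
      linarith
    obtain ⟨j, hj, h4⟩ := HomChi.exists_idx_of_chi hg _ h3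
    exact ⟨j, hj, h4⟩
  choose! w hw using hidx
  have e0 : w 0 = i := by
    have h3 := (hw 0 (Nat.zero_le _)).2
    rw [Nat.mul_zero, pow_zero, mul_one] at h3
    exact h3.unique (HomChi.hasIdx_pow h1 (by omega))
  have e1 : w (N₀ + 1) = i' := by
    have h3 := (hw (N₀ + 1) le_rfl).2
    rw [← hNdef, ← mul_pow] at h3
    exact h3.unique (HomChi.hasIdx_pow h2 (by omega))
  obtain ⟨t, ht, hjump⟩ := exists_jump w (N₀ + 1) (by rw [e0, e1]; exact hne)
  have i1 := hw t (by omega)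
  have i2 := hw (t + 1) (by omega)
  refine ⟨N, by omega, ?_⟩
  have b1 := hlow (m * (t + 1)) (Nat.mul_le_mul_left m (by omega))
  have b2 := abs_chi hL hH.1 N (m * (t + 1)) (w (t + 1)) i2.2
  have b3 : h k L H N (m * t) (w (t + 1)) (Coh.structureModule X.left) = 0 :=
    hO_eq_zero hL hH.1 N (m * t) (w (t + 1)) (i1.2.1 _ (Ne.symm hjump))
  have b4 := (hcut N (m * t) (w (t + 1))).2
  rw [b3, zero_add, ← Nat.mul_succ] at b4
  have b5 := hCj (w (t + 1)) N (m * t)
  have b6 : B g (N + m * t) ≤ (3 * N) ^ (g - 1) := by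
    obtain ⟨g', rfl⟩ : ∃ g', g = g' + 1 := ⟨g - 1, by omega⟩
    change (N + m * t + 1) ^ g' ≤ _
    refine Nat.pow_le_pow_left ?_ _
    have : m * t ≤ N := Nat.mul_le_mul_left m (by omega)
    omega
  have b7 : h k L H N (m * (t + 1)) (w (t + 1)) (Coh.structureModule X.left) ≤ C * (3 * N) ^ (g - 1) :=
    b4.trans (b5.trans (Nat.mul_le_mul (hC _ i2.1) b6))
  have b8 : |(chi (c ^ N * q ^ (m * (t + 1))) : ℝ)| = (h k L H N (m * (t + 1)) (w (t + 1)) (Coh.structureModule X.left) : ℝ) := by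
    rw [← Int.cast_abs, b2]
    simp
  rw [b8] at b1
  have b9 : (h k L H N (m * (t + 1)) (w (t + 1)) (Coh.structureModule X.left) : ℝ) ≤ C * (3 * N) ^ (g - 1) := by
    exact_mod_cast b7
  rw [mul_comm c₀]
  refine b1.trans (b9.trans (le_of_eq ?_))
  rw [mul_pow, mul_assoc]

end K524.Root
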