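import Groth.Agent.AbVar.K524.Root
import Groth.Agent.S2327

/-!
# The drop of the index at a root of the characteristic polynomial

* `exists_root_between`: if the indices of `c^N q^a` and `c^N q^b` differ, `Φ` has a root in `[a/N, b/N]`.
* `le_add_mult`: if `τ` is the only root of `Φ` in `[0, 1]`, then `i(c) ≤ i(c q) + mult τ`.
-/

set_option autoImplicit false
universe u

open CategoryTheory CategoryTheory.Limits MonoidalCategory CartesianMonoidalCategory AlgebraicGeometry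
open scoped MonObj
open Groth.Agent Groth.Agent.Grpsch.PicGrp Groth.Agent.Grpsch.Cube K524.Kun K524.PicZeroVan K512.Slice K524.Index
open K524.Chi Groth.Agent.Fga.PicMon K524.Growth K524.Root

namespace K524.Root2

attribute [local instance] ov

variable {k : Type u} [Field k] {X : Over (Spec (CommRingCat.of k))} [IsProper X.hom] [GrpObj X]
  [GeometricallyIntegral X.hom]

theorem exists_root_between {g : ℕ} (hg : topologicalKrullDim X.left = g) {L H : X.left.Modules}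
    (hL : PicF.IsInvertible L) (hH : CohB1.IsAmple H) (Φ : Polynomial ℚ)
    (hΦ : ∀ n : ℕ, Φ.eval (n : ℚ) = (chi (mk L hL * mk H hH.1 ^ n) : ℚ)) (N a b : ℕ) (hN : 1 ≤ N) (hab : a < b)
    {i i' : ℕ} (h1 : HasIdx (mk L hL ^ N * mk H hH.1 ^ a) i) (h2 : HasIdx (mk L hL ^ N * mk H hH.1 ^ b) i')
    (hne : i ≠ i') : ∃ t : ℝ, (a : ℝ) / N ≤ t ∧ t ≤ (b : ℝ) / N ∧ (Φ.map (algebraMap ℚ ℝ)).eval t = 0 := by
  have hp : IsProper (X.left ↘ (Spec (CommRingCat.of k))) := isProper_ov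
  have hNoeth : IsNoetherian X.left := Fga.HypSec.isNoetherian k X.left
  have hsep : X.left.IsSeparated := Fga.HypSec.isSeparated k X.left
  have hb : 0 < b - a := Nat.sub_pos_of_lt hab
  have hH' : CohB1.IsAmple (CohB1.tensorPow H (b - a)) := (S2327.result X.left H hH.1 (b - a) hb).mp hH
  have e1 : mk (CohB1.tensorPow H (b - a)) hH'.1 = mk H hH.1 ^ (b - a) := mk_tensorPow hH.1 _
  have e2 := mk_T hL hH.1 N a
  have hNpos : (0 : ℝ) < N := by exact_mod_cast hN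
  have hNq : (N : ℚ) ≠ 0 := by exact_mod_cast (Nat.pos_iff_ne_zero.mp hN)
  let Φ' : Polynomial ℚ := Polynomial.C ((N : ℚ) ^ g) *
    Φ.comp (Polynomial.C ((a : ℚ) / N) + Polynomial.C (((b - a : ℕ) : ℚ) / N) * Polynomial.X)
  obtain ⟨t, ht0, ht1, ht⟩ := exists_root hg (isInvertible_T hL hH.1 N a) hH' (i := i) (i' := i')
    (by rw [e2]; exact h1)
    (by
      rw [e1, e2, mul_assoc, ← pow_add, Nat.add_sub_cancel' hab.le]
      exact h2) hne Φ' (by
    intro n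
    have h3 := HomChi.chi_hom hg (mk L hL) (mk H hH.1) Φ hΦ N hN (a + (b - a) * n)
    rw [e1, e2, ← pow_mul, mul_assoc, ← pow_add, h3]
    simp only [Φ', Polynomial.eval_mul, Polynomial.eval_C, Polynomial.eval_comp, Polynomial.eval_add,
      Polynomial.eval_X]
    congr 2
    push_cast
    field_simp)
  refine ⟨(a : ℝ) / N + ((b - a : ℕ) : ℝ) / N * t, ?_, ?_, ?_⟩
  · have : 0 ≤ ((b - a : ℕ) : ℝ) / N * t := by positivity
    linarith
  · have h3 : ((b - a : ℕ) : ℝ) / N * t ≤ ((b - a : ℕ) : ℝ) / N * 1 :=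
      mul_le_mul_of_nonneg_left ht1 (by positivity)
    have h4 : (b : ℝ) / N = (a : ℝ) / N + ((b - a : ℕ) : ℝ) / N * 1 := by
      rw [Nat.cast_sub hab.le]
      field_simp
      ring
    rw [h4]
    linarith
  · simp only [Φ', Polynomial.map_mul, Polynomial.map_comp, Polynomial.map_add, Polynomial.map_C, Polynomial.map_X,
      Polynomial.eval_mul, Polynomial.eval_C, Polynomial.eval_comp, Polynomial.eval_add, Polynomial.eval_X, map_pow,
      map_div₀, map_natCast, Polynomial.map_pow, Polynomial.map_natCast, Polynomial.eval_pow,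
      Polynomial.eval_natCast] at ht
    exact (mul_eq_zero.mp ht).resolve_left (pow_ne_zero _ hNpos.ne')

/-- Among two consecutive multiples of `τ` one is at distance at least `δ` below its ceiling. -/
theorem exists_ceil (τ δ : ℝ) (hδ : 0 < δ) (h1 : δ < τ) (h2 : δ ≤ 1 - τ) (N : ℕ) :
    ∃ M, (M = N ∨ M = N + 1) ∧ δ ≤ (⌈τ * M⌉₊ : ℝ) - τ * M := by
  have hτ : 0 < τ := hδ.trans h1
  by_cases h : δ ≤ (⌈τ * N⌉₊ : ℝ) - τ * N
  · exact ⟨N, Or.inl rfl, h⟩
  · refine ⟨N + 1, Or.inr rfl, ?_⟩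
    push Not at h
    have h3 : τ * N ≤ ⌈τ * N⌉₊ := Nat.le_ceil _
    have h4 : ⌈τ * ((N + 1 : ℕ) : ℝ)⌉₊ = ⌈τ * N⌉₊ + 1 := by
      rw [Nat.ceil_eq_iff (Nat.succ_ne_zero _)]
      push_cast
      constructor
      · linarith
      · linarith
    rw [h4]
    push_cast
    linarith

/-- `i(c) ≤ i(c q) + mult τ` if `τ` is the only root of `Φ` in `[0, 1]` and `τ < 1`. -/
theorem le_add_mult {g : ℕ} (hg : topologicalKrullDim X.left = g) {L H : X.left.Modules}
    (hL : PicF.IsInvertible L) (hH : CohB1.IsAmple H) {i i' : ℕ} (h1 : HasIdx (mk L hL) i)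
    (h2 : HasIdx (mk L hL * mk H hH.1) i') (Φ : Polynomial ℚ)
    (hΦ : ∀ n : ℕ, Φ.eval (n : ℚ) = (chi (mk L hL * mk H hH.1 ^ n) : ℚ))
    (τ : ℝ) (hτ0 : 0 ≤ τ) (hτ1 : τ < 1) (hτ : (Φ.map (algebraMap ℚ ℝ)).eval τ = 0)
    (huniq : ∀ t : ℝ, 0 ≤ t → t ≤ 1 → (Φ.map (algebraMap ℚ ℝ)).eval t = 0 → t = τ) :
    i ≤ i' + (Φ.map (algebraMap ℚ ℝ)).rootMultiplicity τ := by
  set c := mk L hL with hc
  set q := mk H hH.1 with hq
  set P := Φ.map (algebraMap ℚ ℝ) with hP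
  set e := P.rootMultiplicity τ with hmu
  by_contra hlt
  push Not at hlt
  have hχ0 : chi c ≠ 0 := Bc.chi_ne_zero h1
  have hP0 : P.eval 0 ≠ 0 := by
    intro h0
    have h3 : Φ.eval 0 = 0 := by
      have h4 : P.eval (algebraMap ℚ ℝ 0) = algebraMap ℚ ℝ (Φ.eval 0) := by
        rw [hP, Polynomial.eval_map, Polynomial.eval₂_at_apply]
      rw [map_zero, h0] at h4
      exact (map_eq_zero (algebraMap ℚ ℝ)).mp h4.symm
    have h5 := hΦ 0
    rw [Nat.cast_zero, h3, pow_zero, mul_one] at h5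
    exact hχ0 (by exact_mod_cast h5.symm)
  have hτpos : 0 < τ := lt_of_le_of_ne hτ0 fun h => hP0 (by rw [← h] at hτ; exact hτ)
  have hPne : P ≠ 0 := fun h => hP0 (by rw [h, Polynomial.eval_zero])
  obtain ⟨Ψ, hΨ, hndvd⟩ := P.exists_eq_pow_rootMultiplicity_mul_and_not_dvd hPne τ
  rw [← hmu] at hΨ
  have hΨτ : Ψ.eval τ ≠ 0 := fun h => hndvd (Polynomial.dvd_iff_isRoot.mpr h)
  set c₁ : ℝ := |Ψ.eval τ| / 2 with hc₁
  have hc₁pos : 0 < c₁ := by positivity
  obtain ⟨ε, hε, hΨε⟩ : ∃ ε > 0, ∀ t : ℝ, |t - τ| < ε → c₁ ≤ |Ψ.eval t| := by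
    have h3 : Filter.Tendsto (fun t : ℝ => |Ψ.eval t|) (nhds τ) (nhds |Ψ.eval τ|) := Ψ.continuous.abs.tendsto τ
    have h4 : ∀ᶠ t in nhds τ, c₁ < |Ψ.eval t| := h3.eventually (lt_mem_nhds (by
      have := abs_pos.mpr hΨτ
      rw [hc₁]
      linarith))
    obtain ⟨ε, hε, h5⟩ := Metric.eventually_nhds_iff.mp h4
    exact ⟨ε, hε, fun t ht => (h5 (by rwa [Real.dist_eq])).le⟩
  have hig : i ≤ g := HomChi.le_of_hasIdx hg h1
  set r := i - i' with hr
  have hrm : e < r := by omega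
  have hrg : r ≤ g := by omega
  have hg1 : 1 ≤ g := by omega
  -- indices away from `τ`
  have hne : ∀ (N : ℕ), 1 ≤ N → ∀ b : ℕ, b ≤ N → ((b : ℝ) / N ≠ τ) → ∃ j, HasIdx (c ^ N * q ^ b) j := by
    intro N hN b hb hbτ
    have hNpos : (0 : ℝ) < N := by exact_mod_cast hN
    have h3 : chi (c ^ N * q ^ b) ≠ 0 := by
      intro h0
      have h4 := chi_real hg c q Φ hΦ N hN b
      rw [h0, Int.cast_zero] at h4
      have h5 := (mul_eq_zero.mp h4.symm).resolve_left (pow_ne_zero _ hNpos.ne')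
      exact hbτ (huniq _ (by positivity) (by rw [div_le_one hNpos]; exact_mod_cast hb) h5)
    obtain ⟨j, -, hj⟩ := HomChi.exists_idx_of_chi hg _ h3
    exact ⟨j, hj⟩
  have hlow : ∀ (N : ℕ), 1 ≤ N → ∀ b : ℕ, (b : ℝ) < τ * N → HasIdx (c ^ N * q ^ b) i := by
    intro N hN b hb
    have hNpos : (0 : ℝ) < N := by exact_mod_cast hN
    have hbN : (b : ℝ) < N := hb.trans_le (by nlinarith)
    have hbN' : b ≤ N := by exact_mod_cast hbN.le
    have hbτ : (b : ℝ) / N < τ := by rwa [div_lt_iff₀ hNpos]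
    obtain ⟨j, hj⟩ := hne N hN b hbN' hbτ.ne
    have h0 : HasIdx (c ^ N * q ^ 0) i := by
      rw [pow_zero, mul_one]
      exact HomChi.hasIdx_pow h1 (by omega)
    by_cases hb0 : b = 0
    · rw [hb0]
      exact h0
    · by_contra hcon
      have hij : i ≠ j := fun h => hcon (h ▸ hj)
      obtain ⟨t, ht0, ht1, ht⟩ := exists_root_between hg hL hH Φ hΦ N 0 b hN (Nat.pos_of_ne_zero hb0) h0 hj hij
      have h3 := huniq t (le_trans (by positivity) ht0) (ht1.trans (hbτ.le.trans hτ1.le)) ht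
      rw [h3] at ht1
      exact absurd ht1 (not_le.mpr hbτ)
  have hhigh : ∀ (N : ℕ), 1 ≤ N → ∀ b : ℕ, b ≤ N → τ * N < (b : ℝ) → HasIdx (c ^ N * q ^ b) i' := by
    intro N hN b hbN hb
    have hNpos : (0 : ℝ) < N := by exact_mod_cast hN
    have hbτ : τ < (b : ℝ) / N := by rwa [lt_div_iff₀ hNpos]
    obtain ⟨j, hj⟩ := hne N hN b hbN hbτ.ne'
    have h0 : HasIdx (c ^ N * q ^ N) i' := by
      rw [← mul_pow]
      exact HomChi.hasIdx_pow h2 (by omega)
    by_cases hb0 : b = N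
    · rw [hb0]
      exact h0
    · by_contra hcon
      have hij : j ≠ i' := fun h => hcon (h ▸ hj)
      obtain ⟨t, ht0, ht1, ht⟩ := exists_root_between hg hL hH Φ hΦ N b N hN (lt_of_le_of_ne hbN hb0) hj h0 hij
      rw [div_self hNpos.ne'] at ht1
      have h3 := huniq t (le_trans (by positivity) ht0) ht1 ht
      rw [h3] at ht0
      exact absurd ht0 (not_le.mpr hbτ)
  -- the cuts
  have hp : IsProper (X.left ↘ (Spec (CommRingCat.of k))) := isProper_ov
  have hN : IsNoetherian X.left := Fga.HypSec.isNoetherian k X.left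
  have hcO : Coh.IsCoh (Coh.structureModule X.left) := Fdesc.StructMod.isCoh_structureModule _
  obtain ⟨M, G, hG, hGdim, -, hI⟩ := Cuts.exists_cuts k hL hH g (dim_support_unit hg) hcO r hrg
  obtain ⟨C, hC⟩ := Growth.main (k := k) hL hH.1 (g - r + 1) G hG (by
    rw [hGdim]
    exact_mod_cast Nat.lt_succ_self (g - r)) i'
  -- the constant `δ`
  set δ : ℝ := min τ (1 - τ) / 2 with hδdef
  have hmin : 0 < min τ (1 - τ) := lt_min hτpos (by linarith)
  have hδ : 0 < δ := by positivity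
  have hδ1 : δ < τ := by
    have := min_le_left τ (1 - τ)
    linarith
  have hδ2 : δ ≤ 1 - τ := by
    have := min_le_right τ (1 - τ)
    linarith
  refine absurd_growth g hg1 (δ ^ e * c₁) (C * 3 ^ (g - r)) (by positivity) fun N₀ => ?_
  obtain ⟨n₁, hn₁⟩ := exists_nat_gt (1 / ε)
  obtain ⟨n₂, hn₂⟩ := exists_nat_gt ((M : ℝ) / τ)
  obtain ⟨N, hNcases, hceil⟩ := exists_ceil τ δ hδ hδ1 hδ2 (N₀ + n₁ + n₂ + 1)
  have hNge : N₀ + n₁ + n₂ + 1 ≤ N := by omega
  have hN1 : 1 ≤ N := by omega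
  have hNpos : (0 : ℝ) < N := by exact_mod_cast hN1
  set a₀ := ⌈τ * N⌉₊ with ha₀
  have ha1 : τ * N < a₀ := by linarith
  have ha2 : (a₀ : ℝ) < τ * N + 1 := Nat.ceil_lt_add_one (by positivity)
  have ha3 : a₀ ≤ N := by
    rw [ha₀]
    refine Nat.ceil_le.mpr ?_
    nlinarith
  have ha4 : M ≤ a₀ := by
    have h3 : (M : ℝ) < τ * n₂ := by rwa [div_lt_iff₀ hτpos, mul_comm] at hn₂
    have h4 : (n₂ : ℝ) ≤ N := by
      have : n₂ ≤ N := by omega
      exact_mod_cast this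
    have h5 : τ * n₂ ≤ τ * N := mul_le_mul_of_nonneg_left h4 hτpos.le
    have h6 : (M : ℝ) < a₀ := by linarith
    exact_mod_cast h6.le
  refine ⟨N, by omega, ?_⟩
  -- the bound from above
  have b1 := hI N i i' (a₀ - M) (by omega) (fun b hb1 hb2 j hj => by
    refine hO_eq_zero hL hH.1 N b j ((hlow N hN1 b ?_).1 j hj)
    have h3 : b + 1 ≤ a₀ := by omega
    have h4 : ((b : ℝ) + 1) ≤ a₀ := by exact_mod_cast h3
    linarith)
  rw [Nat.sub_add_cancel ha4] at b1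
  have b2 := hC N (a₀ - M)
  have b3 : B (g - r + 1) (N + (a₀ - M)) ≤ (3 * N) ^ (g - r) := by
    change (N + (a₀ - M) + 1) ^ (g - r) ≤ _
    refine Nat.pow_le_pow_left ?_ _
    omega
  have b4 : h k L H N a₀ i' (Coh.structureModule X.left) ≤ C * (3 * N) ^ (g - r) :=
    b1.trans (b2.trans (Nat.mul_le_mul_left _ b3))
  have b5 := abs_chi hL hH.1 N a₀ i' (hhigh N hN1 a₀ ha3 ha1)
  have b6 : |(chi (c ^ N * q ^ a₀) : ℝ)| = (h k L H N a₀ i' (Coh.structureModule X.left) : ℝ) := by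
    rw [← Int.cast_abs, b5]
    simp
  have b7 : |(chi (c ^ N * q ^ a₀) : ℝ)| ≤ C * (3 * N) ^ (g - r) := by
    rw [b6]
    exact_mod_cast b4
  -- the bound from below
  rw [chi_real hg c q Φ hΦ N hN1, ← hP, hΨ, Polynomial.eval_mul, Polynomial.eval_pow, Polynomial.eval_sub,
    Polynomial.eval_X, Polynomial.eval_C, abs_mul, abs_mul, abs_pow, abs_pow, Nat.abs_cast] at b7
  have d1 : δ / N ≤ |(a₀ : ℝ) / N - τ| := by
    have h3 : (a₀ : ℝ) / N - τ = (a₀ - τ * N) / N := by field_simp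
    rw [h3, abs_div, abs_of_pos hNpos]
    refine div_le_div_of_nonneg_right ?_ hNpos.le
    exact hceil.trans (le_abs_self _)
  have d2 : |(a₀ : ℝ) / N - τ| < ε := by
    have h3 : (a₀ : ℝ) / N - τ = (a₀ - τ * N) / N := by field_simp
    have h4 : (n₁ : ℝ) ≤ N := by
      have : n₁ ≤ N := by omega
      exact_mod_cast this
    have h5 : 1 / ε < N := hn₁.trans_le h4
    have h6 : 1 < ε * N := by rwa [div_lt_iff₀ hε, mul_comm] at h5
    rw [h3, abs_of_pos (div_pos (by linarith) hNpos), div_lt_iff₀ hNpos]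
    linarith
  have d3 := hΨε _ d2
  have d4 : (δ / N) ^ e ≤ |(a₀ : ℝ) / N - τ| ^ e := pow_le_pow_left₀ (by positivity) d1 e
  have d5 : (N : ℝ) ^ g * ((δ / N) ^ e * c₁) ≤ C * (3 * N) ^ (g - r) :=
    le_trans (mul_le_mul_of_nonneg_left (mul_le_mul d4 d3 hc₁pos.le (by positivity)) (by positivity)) b7
  -- multiply by `N ^ e`
  have d6 : δ ^ e * c₁ * (N : ℝ) ^ g ≤ C * 3 ^ (g - r) * (N : ℝ) ^ (g - r + e) := by
    have h3 := mul_le_mul_of_nonneg_right d5 (pow_nonneg hNpos.le e)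
    have h4 : (N : ℝ) ^ g * ((δ / N) ^ e * c₁) * (N : ℝ) ^ e = δ ^ e * c₁ * (N : ℝ) ^ g := by
      rw [div_pow]
      field_simp
    have h5 : (C : ℝ) * (3 * N) ^ (g - r) * (N : ℝ) ^ e = C * 3 ^ (g - r) * (N : ℝ) ^ (g - r + e) := by
      rw [mul_pow, pow_add]
      ring
    rwa [h4, h5] at h3
  refine d6.trans (mul_le_mul_of_nonneg_left ?_ (by positivity))
  exact pow_le_pow_right₀ (by exact_mod_cast hN1) (by omega)

end K524.Root2
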