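import Groth.Agent.AbVar.K524.Below
import Groth.Agent.AbVar.K524.Bc

/-!
# Subadditivity of the index

`index_le`: `k` algebraically closed; if `c₁`, `c₂`, `c₁c₂` have indices `i₁`, `i₂`, `i` then `i ≤ i₁ + i₂`.
-/

set_option autoImplicit false
universe u

open CategoryTheory CategoryTheory.Limits MonoidalCategory CartesianMonoidalCategory AlgebraicGeometry
open scoped MonObj
open Groth.Agent Groth.Agent.Grpsch.PicGrp Groth.Agent.Grpsch.Cube K524.Kun K524.PicZeroVan K512.Slice K524.Index
open K524.Chi
open K506.Transl (tr phi Inv)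

namespace K524.Sub

variable {k : Type u} [Field k] [IsAlgClosed k]

/-- If `H^q` of all slices `A × {y}`, `y` rational, vanishes for `q < m`, then `H^n(A × B, N) = 0` for `n < m`. -/
theorem van_of_slices_below {A B : Over (Spec (CommRingCat.of k))} [IsProper A.hom] [IsProper B.hom]
    (N : Pic (A ⊗ B).left) (m : ℕ) (h : ∀ (y : 𝟙_ (Over (Spec (CommRingCat.of k))) ⟶ B) q, q < m → Van (pl (j2 A y) N) q)
    (n : ℕ) (hn : n < m) : Van N n := by
  obtain ⟨F, hF, rfl⟩ := exists_mk N
  rw [van_mk]
  have i1 : IsProper (snd A B).left := isProper_snd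
  have i2 : Flat (snd A B).left := flat_snd
  have i3 : LocallyOfFinitePresentation (snd A B).left := by rw [Over.snd_left]; infer_instance
  have hcoh := Groth.Agent.S2329.isCoh_of_isInvertible hF
  have hfl := Grpsch.CubeClosed.isFlatOver_of_isInvertible (snd A B).left hF
  have hFP : CohB1.IsFP F :=
    Desc.FinLocFreeSections.isFP_of_isFinLocFree (Grpsch.CubeClosed.isFinLocFree_of_isInvertible hF)
  have : IsLocallyNoetherian B.left := LocallyOfFiniteType.isLocallyNoetherian B.hom
  have : JacobsonSpace B.left := LocallyOfFiniteType.jacobsonSpace B.hom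
  have : CompactSpace B.left := QuasiCompact.compactSpace_of_compactSpace B.hom
  have : B.left.IsSeparated := K512.FinSupp.y_isSeparated B.hom
  have := Groth.Agent.Dcoh.DerSch.hasInjectiveResolutions (A ⊗ B).left
  have hb : ∀ q, q < m → ∀ y, PerfAux.betti (snd A B).left F y q = 0 := by
    intro q hq y
    have h1 := K512.FinSupp.subset_of_closedPoints (Y := B.left) ∅ Set.finite_empty (by simp)
      (Groth.Agent.S1025.result (snd A B).left F hFP hfl q 1) (fun y hy _ => by
        obtain ⟨t, rfl⟩ := K512.Pts.exists_pt y hy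
        have h2 : Van (pull ((snd A B).left.fiberι (t.left (IsLocalRing.closedPoint k))) (mk F hF)) q := by
          have h5 : IsIso (t.left.residueFieldMap (IsLocalRing.closedPoint k)) :=
            Key.isIso_residueFieldMap_of_section t.left B.hom (K512.Pts.w_unit t) _
          have h6 : IsIso ((toUnit A).left.fiberι (IsLocalRing.closedPoint k)) := Key.isIso_fiberι_spec _ _
          exact (Key.van_fiber_iff (isPullback_left_j2 (A := A) t) (IsLocalRing.closedPoint k) (mk F hF) q).mpr
            (h t q hq)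
        rw [pull_mk, van_mk] at h2
        change PerfAux.betti (snd A B).left F _ q < 1
        have h3 : PerfAux.betti (snd A B).left F (t.left (IsLocalRing.closedPoint k)) q = 0 :=
          @Module.finrank_zero_of_subsingleton _ _ _ _ _ _ h2
        omega)
    have h4 : y ∈ {s | PerfAux.betti (snd A B).left F s q < 1} := h1 (by simp)
    have h5 : PerfAux.betti (snd A B).left F y q < 1 := h4
    omega
  exact Below.subsingleton_HH_of_below (f := (snd A B).left) hcoh.1 m (fun q hq =>
    FinSupp.isZero_Rpush_of_fiberRank (snd A B).left F hcoh hfl q (fun y => hb q hq y)) n hn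

variable {X : Over (Spec (CommRingCat.of k))} [GrpObj X] [IsProper X.hom] [GeometricallyIntegral X.hom]

theorem index_le {c₁ c₂ : Pic X.left} {i₁ i₂ i : ℕ} (h₁ : HasIdx c₁ i₁) (h₂ : HasIdx c₂ i₂)
    (h : HasIdx (c₁ * c₂) i) : i ≤ i₁ + i₂ := by
  have hbox := HasIdx.box (X := X) (Y := X) h₁ h₂
  by_contra hlt
  have hlt' : i₁ + i₂ < i := not_le.mp hlt
  apply hbox.2
  have hiso : IsIso (shear (𝟙 X)).hom.left := Grpsch.MulFin.isIso_left _
  rw [← van_pull_iso (shear (𝟙 X)).hom.left]
  refine van_of_slices_below _ i (fun y q hq => ?_) _ hlt'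
  have h3 : pl (j2 X y) (pl (shear (𝟙 X)).hom (pl (fst X X) c₁ * pl (snd X X) c₂)) = c₁ * c₂ * phi c₂ y := by
    have e1 : j2 X y ≫ (shear (𝟙 X)).hom ≫ fst X X = 𝟙 X := by rw [shear_hom_fst, j2_fst]
    have e2 : j2 X y ≫ (shear (𝟙 X)).hom ≫ snd X X = tr y := by
      rw [shear_hom_snd, MonObj.comp_mul, ← Category.assoc, j2_fst, j2_snd, Category.comp_id]
    rw [← pl_comp, map_mul, ← pl_comp, ← pl_comp, Category.assoc, Category.assoc, e1, e2, Index.pl_id]
    unfold phi
    rw [mul_assoc, mul_comm c₂, inv_mul_cancel_right]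
  rw [h3]
  exact (HasIdx.twist (Bc.nd_of_hasIdx h) (K506.Transl.phi_transl c₂ y) h).1 q hq.ne

end K524.Sub
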