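import Mathlib.Data.Set.Finite.Basic
import Mathlib.GroupTheory.Torsion
import Mathlib.GroupTheory.OrderOfElement
import Mathlib.LinearAlgebra.Quotient.Defs
import Mathlib.Data.Nat.Prime.Basic
import Mathlib.Tactic

/-!
# The Tate sequence of a surjective homomorphism with finite kernel, for abstract groups
-/

set_option autoImplicit false

universe u v

namespace K524.TateAlg

variable {A : Type u} {B : Type v} [AddCommGroup A] [AddCommGroup B] (l : ℕ)

/-- Compatible sequences of `l`-power torsion elements. -/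
def IsTate (x : ℕ → A) : Prop := (∀ n, (l ^ n) • x n = 0) ∧ ∀ n, l • x (n + 1) = x n

/-- `l`-power torsion. -/
def IsPT (a : A) : Prop := ∃ n : ℕ, (l ^ n) • a = 0

variable {l}

theorem IsPT.add {a b : A} (ha : IsPT l a) (hb : IsPT l b) : IsPT l (a + b) := by
  obtain ⟨n, hn⟩ := ha
  obtain ⟨m, hm⟩ := hb
  refine ⟨n + m, ?_⟩
  rw [smul_add, pow_add, mul_smul, mul_smul, hm, smul_zero, add_zero, smul_comm, hn, smul_zero]

theorem IsPT.neg {a : A} (ha : IsPT l a) : IsPT l (-a) := by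
  obtain ⟨n, hn⟩ := ha
  exact ⟨n, by rw [smul_neg, hn, neg_zero]⟩

theorem IsPT.sub {a b : A} (ha : IsPT l a) (hb : IsPT l b) : IsPT l (a - b) := by
  rw [sub_eq_add_neg]; exact ha.add hb.neg

theorem IsPT.smul {a : A} (ha : IsPT l a) (m : ℕ) : IsPT l (m • a) := by
  obtain ⟨n, hn⟩ := ha
  exact ⟨n, by rw [smul_comm, hn, smul_zero]⟩

theorem isPT_of_smul {a : A} {m : ℕ} (h : IsPT l ((l ^ m) • a)) : IsPT l a := by
  obtain ⟨n, hn⟩ := h
  exact ⟨n + m, by rw [pow_add, mul_smul, hn]⟩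

theorem isPT_of_smul_one {a : A} (h : IsPT l (l • a)) : IsPT l a := by
  obtain ⟨n, hn⟩ := h
  exact ⟨n + 1, by rw [pow_succ, mul_smul, hn]⟩

theorem pow_smul_eq_zero_of_le {a : A} {n m : ℕ} (h : (l ^ n) • a = 0) (hnm : n ≤ m) :
    (l ^ m) • a = 0 := by
  obtain ⟨d, rfl⟩ := Nat.exists_eq_add_of_le hnm
  rw [add_comm, pow_add, mul_smul, h, smul_zero]

/-- A bound for the `l`-power torsion of a finite set. -/
theorem exists_bound {S : Set A} (hS : S.Finite) : ∃ M : ℕ, ∀ a ∈ S, IsPT l a → (l ^ M) • a = 0 := by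
  classical
  have : ∀ a : A, ∃ n : ℕ, IsPT l a → (l ^ n) • a = 0 := by
    intro a
    by_cases h : IsPT l a
    · obtain ⟨n, hn⟩ := h
      exact ⟨n, fun _ => hn⟩
    · exact ⟨0, fun h' => absurd h' h⟩
  choose e he using this
  obtain ⟨M, hM⟩ : ∃ M, ∀ a ∈ S, e a ≤ M := by
    obtain ⟨M, hM⟩ := (hS.image e).bddAbove
    exact ⟨M, fun a ha => hM ⟨a, ha, rfl⟩⟩
  exact ⟨M, fun a ha h => pow_smul_eq_zero_of_le (he a h) (hM a ha)⟩

theorem IsTate.pow_smul {x : ℕ → A} (hx : IsTate l x) (n m : ℕ) : (l ^ m) • x (n + m) = x n := by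
  induction m with
  | zero => simp
  | succ m ih => rw [pow_succ, mul_smul, ← add_assoc, hx.2, ih]

theorem IsTate.isPT {x : ℕ → A} (hx : IsTate l x) (n : ℕ) : IsPT l (x n) := ⟨n, hx.1 n⟩

section

variable (f : A →+ B)

/-- injectivity -/
theorem eq_zero_of_map_eq_zero (hfin : (f.ker : Set A).Finite) {x : ℕ → A} (hx : IsTate l x)
    (h : ∀ n, f (x n) = 0) (n : ℕ) : x n = 0 := by
  obtain ⟨M, hM⟩ := exists_bound (l := l) hfin
  rw [← hx.pow_smul n M]
  exact hM _ (h _) (hx.isPT _)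

/-- Lifting a torsion element to an `l`-power torsion element. -/
theorem exists_lift (hl : l.Prime) (hfin : (f.ker : Set A).Finite) (hf : Function.Surjective f) {b : B} {n : ℕ}
    (hb : (l ^ n) • b = 0) : ∃ z : A, IsPT l z ∧ f z = b := by
  obtain ⟨z', hz'⟩ := hf b
  have h1 : (l ^ n) • z' ∈ f.ker := by
    rw [AddMonoidHom.mem_ker, map_nsmul, hz', hb]
  have hF : Finite f.ker := hfin
  obtain ⟨e, he0, he'⟩ := (isOfFinAddOrder_of_finite (⟨_, h1⟩ : f.ker)).exists_nsmul_eq_zero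
  have he : e • ((l ^ n) • z') = 0 := congrArg Subtype.val he'
  obtain ⟨a, q, hq, rfl⟩ := Nat.exists_eq_pow_mul_and_not_dvd he0.ne' l hl.ne_one
  have hco : Nat.Coprime q (l ^ n) := by
    apply Nat.Coprime.pow_right
    rw [Nat.coprime_comm]
    exact (Nat.Prime.coprime_iff_not_dvd hl).mpr hq
  obtain ⟨v, hv⟩ : ∃ v : ℕ, (q * v) ≡ 1 [MOD l ^ n] := by
    rcases Nat.eq_zero_or_pos n with rfl | hn
    · exact ⟨0, by simp [Nat.ModEq, Nat.mod_one]⟩
    · obtain ⟨v, -, hv⟩ := Nat.exists_mul_mod_eq_one_of_coprime hco (Nat.one_lt_pow hn.ne' hl.one_lt)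
      refine ⟨v, ?_⟩
      rw [Nat.ModEq, hv, Nat.mod_eq_of_lt (Nat.one_lt_pow hn.ne' hl.one_lt)]
  refine ⟨(q * v) • z', ?_, ?_⟩
  · refine ⟨a + n, ?_⟩
    have : (l ^ (a + n)) • (q * v) • z' = v • ((l ^ a * q) • ((l ^ n) • z')) := by
      rw [← mul_smul, ← mul_smul, ← mul_smul]
      congr 1
      ring
    rw [this, he, smul_zero]
  · rw [map_nsmul, hz']
    have h2 : (q * v) • b = (1 : ℕ) • b := by
      rw [← Nat.mod_add_div (q * v) (l ^ n), hv, add_smul, mul_comm (l ^ n), mul_smul, hb, smul_zero, add_zero]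
      conv_rhs => rw [← Nat.mod_add_div 1 (l ^ n), add_smul, mul_comm (l ^ n), mul_smul, hb, smul_zero, add_zero]
    rw [h2, one_smul]

/-- The relation defining the connecting map. -/
def IsDelta (M : ℕ) (y : ℕ → B) (c : A) : Prop := ∃ z : A, IsPT l z ∧ f z = y M ∧ (l ^ M) • z = c

variable {f}

theorem IsDelta.unique {M : ℕ} (hM : ∀ a ∈ (f.ker : Set A), IsPT l a → (l ^ M) • a = 0) {y : ℕ → B} {c c' : A}
    (h : IsDelta (l := l) f M y c) (h' : IsDelta (l := l) f M y c') : c = c' := by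
  obtain ⟨z, hz, hzy, rfl⟩ := h
  obtain ⟨z', hz', hzy', rfl⟩ := h'
  rw [← sub_eq_zero, ← smul_sub]
  refine hM _ ?_ (hz.sub hz')
  change f (z - z') = 0
  rw [map_sub, hzy, hzy', sub_self]

theorem IsDelta.add {M : ℕ} {y y' : ℕ → B} {c c' : A}
    (h : IsDelta (l := l) f M y c) (h' : IsDelta (l := l) f M y' c') :
    IsDelta (l := l) f M (y + y') (c + c') := by
  obtain ⟨z, hz, hzy, rfl⟩ := h
  obtain ⟨z', hz', hzy', rfl⟩ := h'
  exact ⟨z + z', hz.add hz', by rw [map_add, hzy, hzy']; rfl, smul_add _ _ _⟩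

theorem IsDelta.isPT {M : ℕ} {y : ℕ → B} {c : A} (h : IsDelta (l := l) f M y c) : IsPT l c := by
  obtain ⟨z, hz, -, rfl⟩ := h
  exact hz.smul _

theorem IsDelta.map_eq_zero {M : ℕ} {y : ℕ → B} (hy : IsTate l y) {c : A} (h : IsDelta (l := l) f M y c) :
    f c = 0 := by
  obtain ⟨z, hz, hzy, rfl⟩ := h
  rw [map_nsmul, hzy, hy.1]

theorem exists_isDelta (hl : l.Prime) (hfin : (f.ker : Set A).Finite) (hf : Function.Surjective f) (M : ℕ)
    {y : ℕ → B} (hy : IsTate l y) : ∃ c : A, IsDelta (l := l) f M y c := by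
  obtain ⟨z, hz, hzy⟩ := exists_lift f hl hfin hf (hy.1 M)
  exact ⟨_, z, hz, hzy, rfl⟩

/-- `delta y = 0` iff `y` comes from a Tate sequence of `A`. -/
theorem isDelta_zero_iff (hl : l.Prime) (hfin : (f.ker : Set A).Finite) (hf : Function.Surjective f) {M : ℕ}
    (hM : ∀ a ∈ (f.ker : Set A), IsPT l a → (l ^ M) • a = 0)
    {y : ℕ → B} (hy : IsTate l y) :
    IsDelta (l := l) f M y (0 : A) ↔ ∃ x : ℕ → A, IsTate l x ∧ ∀ n, f (x n) = y n := by
  constructor
  · intro h
    have hlift : ∀ m, ∃ z : A, IsPT l z ∧ f z = y m := fun m => exists_lift f hl hfin hf (hy.1 m)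
    choose z hz hzy using hlift
    have hcomp : ∀ n, l • ((l ^ M) • z (n + 1 + M)) = (l ^ M) • z (n + M) := by
      intro n
      rw [smul_comm, ← sub_eq_zero, ← smul_sub]
      refine hM _ ?_ (((hz _).smul l).sub (hz _))
      change f (l • z (n + 1 + M) - z (n + M)) = 0
      rw [map_sub, map_nsmul, hzy, hzy, show n + 1 + M = n + M + 1 by ring, hy.2, sub_self]
    have h0 : (l ^ M) • z (0 + M) = 0 := by
      refine IsDelta.unique (f := f) hM (y := y) ?_ h
      exact ⟨z (0 + M), hz _, by rw [hzy, Nat.zero_add], rfl⟩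
    refine ⟨fun n => (l ^ M) • z (n + M), ⟨?_, hcomp⟩, ?_⟩
    · intro n
      induction n with
      | zero => simpa using h0
      | succ n ih =>
        rw [pow_succ, mul_smul]
        change (l ^ n) • (l • ((l ^ M) • z (n + 1 + M))) = 0
        rw [hcomp]
        exact ih
    · intro n
      rw [map_nsmul, hzy]
      exact hy.pow_smul n M
  · rintro ⟨x, hx, hxy⟩
    exact ⟨x M, hx.isPT _, hxy _, hx.1 M⟩

/-- surjectivity of the connecting map onto the `l`-power torsion of the kernel -/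
theorem exists_tate_of_mem (hdiv : ∀ a : A, ∃ b : A, l • b = a) {M : ℕ} {c : A} (hc : f c = 0) (hc' : IsPT l c) :
    ∃ y : ℕ → B, IsTate l y ∧ IsDelta (l := l) f M y c := by
  choose d hd using hdiv
  let w : ℕ → A := fun n => Nat.rec c (fun _ a => d a) n
  have hw : ∀ n, l • w (n + 1) = w n := fun n => hd _
  have hw' : ∀ n m, (l ^ m) • w (n + m) = w n := by
    intro n m
    induction m with
    | zero => simp
    | succ m ih => rw [pow_succ, mul_smul, ← add_assoc, hw, ih]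
  have hpt : ∀ n, IsPT l (w n) := by
    intro n
    apply isPT_of_smul (m := n)
    have := hw' 0 n
    rw [Nat.zero_add] at this
    rw [this]
    exact hc'
  refine ⟨fun n => f (w n), ⟨fun n => ?_, fun n => ?_⟩, w M, hpt M, rfl, ?_⟩
  · rw [← map_nsmul]
    have := hw' 0 n
    rw [Nat.zero_add] at this
    rw [this]
    exact hc
  · rw [← map_nsmul, hw]
  · have := hw' 0 M
    rw [Nat.zero_add] at this
    exact this

end

end K524.TateAlg
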